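import Groth.Agent.Lib.Ample18.Avoid
import Groth.Agent.Lib.TensorMod.IdealMod
import Mathlib.RingTheory.Ideal.AssociatedPrime.Localization
import Mathlib.RingTheory.Ideal.AssociatedPrime.Finiteness

/-!
The effective Cartier divisor of a regular section of an invertible module.
-/

universe u

open CategoryTheory Limits AlgebraicGeometry TopologicalSpace Opposite

set_option backward.isDefEq.respectTransparency false

namespace Groth.Agent.SecDiv

open Groth.Agent.M2 (tsec IsGenerator res idealIncl)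
open Groth.Agent.Amp

variable {X : Scheme.{u}} {D M : X.Modules}

/-- The ideal sheaf given by a monomorphism from a quasi-coherent module into the structure sheaf. -/
noncomputable def ofMono (φ : D ⟶ Coh.structureModule X) [Coh.IsQCoh D] : X.IdealSheafData where
  ideal U :=
    { carrier := Set.range fun a : Γ(D, U.1) => (show Γ(X, U.1) from φ.app U.1 a)
      add_mem' := by rintro _ _ ⟨a, rfl⟩ ⟨b, rfl⟩; exact ⟨a + b, map_add (φ.app U.1).hom a b⟩
      zero_mem' := ⟨0, map_zero (φ.app U.1).hom⟩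
      smul_mem' := by rintro r _ ⟨a, rfl⟩; exact ⟨r • a, Scheme.Modules.Hom.app_smul φ r a⟩ }
  map_ideal_basicOpen U f := by
    let ρ := (X.presheaf.map (homOfLE (X.basicOpen_le f)).op).hom
    refine le_antisymm (Ideal.map_le_iff_le_comap.mpr ?_) ?_
    · rintro _ ⟨a, rfl⟩
      exact ⟨res D (X.basicOpen_le f) a, M1.map_app_eq φ (X.basicOpen_le f) a⟩
    · rintro _ ⟨b, rfl⟩
      obtain ⟨k, t, ht⟩ := M1.exists_pow_smul_eq_res_affine D U.2 f b
      have hu : IsUnit (ρ f ^ k) := (X.toRingedSpace.isUnit_res_basicOpen f).pow k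
      refine (Ideal.unit_mul_mem_iff_mem _ hu).mp ?_
      have h1 : ρ (show Γ(X, U.1) from φ.app U.1 t) = ρ f ^ k * (show Γ(X, X.basicOpen f) from φ.app _ b) := by
        refine (M1.map_app_eq φ (X.basicOpen_le f) t).symm.trans ?_
        erw [ht, Scheme.Modules.Hom.app_smul]
        rfl
      exact h1 ▸ Ideal.mem_map_of_mem ρ ⟨t, rfl⟩

/-- Its ideal module is the module one started with. -/
theorem nonempty_iso_idealMod (φ : D ⟶ Coh.structureModule X) [Coh.IsQCoh D] [Mono φ] :
    Nonempty (D ≅ ClSub.idealMod (ofMono φ)) := by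
  let I := ofMono φ
  have h0 : φ ≫ ClSub.toSubscheme I = 0 := by
    refine (Scheme.Modules.hom_ext _ _ fun U => ?_)
    ext a
    choose V hV hxV hVU using fun x : U => exists_isAffineOpen_mem_and_subset (U := U) x.2
    refine M1.modules_eq_of_locally_eq _ U V hVU (fun x hx => Opens.mem_iSup.mpr ⟨⟨x, hx⟩, hxV ⟨x, hx⟩⟩) _ _
      fun x => ?_
    refine ((M1.map_app_eq (φ ≫ ClSub.toSubscheme I) (hVU x) a).symm.trans ?_).trans (map_zero _).symm
    change I.subschemeι.app (V x) (φ.app (V x) _) = 0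
    have hm : (show Γ(X, V x) from φ.app (V x) (M1.mres D (hVU x) a)) ∈ I.ideal ⟨V x, hV x⟩ := ⟨_, rfl⟩
    rw [← I.ker_subschemeι, Scheme.Hom.ker_apply] at hm
    exact RingHom.mem_ker.mp hm
  let ψ : D ⟶ ClSub.idealMod I := kernel.lift _ φ h0
  have hψ : ψ ≫ ClSub.idealModι I = φ := kernel.lift_ι _ _ _
  haveI : Mono ψ := mono_of_mono_fac hψ
  haveI : Epi ψ := by
    refine (M1.epi_iff_locally_surjective ψ).mpr fun U t x hx => ?_
    obtain ⟨W, hW, hxW, hWU⟩ := exists_isAffineOpen_mem_and_subset (U := U) hx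
    obtain ⟨b, hb⟩ := (M2.range_idealIncl I ⟨W, hW⟩).le ⟨res _ hWU t, rfl⟩
    refine ⟨W, hWU, hxW, b, M2.idealIncl_injective I W (Eq.trans ?_ hb)⟩
    exact congrArg (fun g => g.app W b) hψ
  haveI : IsIso ψ := isIso_of_mono_of_epi ψ
  exact ⟨asIso ψ⟩

theorem isEffCartierIdeal_of_isInvertible (I : X.IdealSheafData) (h : PicF.IsInvertible (ClSub.idealMod I)) :
    BlowUp.IsEffCartierIdeal I := by
  intro x
  obtain ⟨U, hxU, ⟨i⟩⟩ := h x
  obtain ⟨W, hW, hxW, hWU⟩ := exists_isAffineOpen_mem_and_subset hxU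
  obtain ⟨i'⟩ := M2.nonempty_trivial_mono hWU i
  obtain ⟨a, ha⟩ := M2.exists_generator i'
  refine ⟨⟨W, hW⟩, hxW, idealIncl I a, ?_, ?_⟩
  · refine mem_nonZeroDivisors_iff_right.mpr fun r hr => ?_
    have h0 : r • a = (0 : Γ(ClSub.idealMod I, W)) := by
      refine M2.idealIncl_injective I W ?_
      rw [M2.idealIncl_smul, hr]
      exact (map_zero ((ClSub.idealModι I).app W).hom).symm
    refine (ha W le_rfl).1 ?_
    change r • res _ le_rfl a = (0 : Γ(X, W)) • res _ le_rfl a
    rw [zero_smul, show res (ClSub.idealMod I) le_rfl a = a from res_self _ a, h0]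
  · apply SetLike.coe_injective
    rw [← M2.range_idealIncl I ⟨W, hW⟩]
    ext s
    simp only [Set.mem_range, SetLike.mem_coe, Ideal.mem_span_singleton']
    constructor
    · rintro ⟨b, rfl⟩
      obtain ⟨r, rfl⟩ := (ha W le_rfl).2 b
      refine ⟨r, ?_⟩
      rw [M2.idealIncl_smul, res_self]
    · rintro ⟨r, rfl⟩
      exact ⟨r • a, M2.idealIncl_smul I r a⟩

/-- A section is regular: multiplication by it is injective on the stalks. -/
def IsRegularSec (s : Coh.structureModule X ⟶ M) : Prop :=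
  ∀ (x : X) (r : X.presheaf.stalk x), r • gm M x (U := ⊤) trivial (gval s) = 0 → r = 0

/-- Multiplication by a regular section, as a monomorphism from an inverse into the structure sheaf. -/
theorem exists_ideal_of_section (hM : PicF.IsInvertible M) (hD : PicF.IsInvertible D)
    (e : CohB1.tensorMod M D ≅ Coh.structureModule X) (s : Coh.structureModule X ⟶ M) (hs : IsRegularSec s) :
    ∃ I : X.IdealSheafData, BlowUp.IsEffCartierIdeal I ∧ Nonempty (D ≅ ClSub.idealMod I) ∧
      (CohB1.genLocus M s : Set X) ⊆ (I.support : Set X)ᶜ := by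
  let τ := M2.tensorMap s (𝟙 D)
  haveI : Mono τ := by
    refine (M1.mono_iff_stalk τ).mpr fun x => ?_
    obtain ⟨U, g, hxU, -, -, hg⟩ := exists_isGenerator hM (V := ⊤) (x := x) trivial
    obtain ⟨V, g', hxV, hVU, -, hg'⟩ := exists_isGenerator hD (V := U) hxU
    obtain ⟨a, ha⟩ := exists_coeff (isGenerator_res hVU hg) (res M le_top (gval s))
    let z := gm (CohB1.tensorMod (Coh.structureModule X) D) x hxV (tsec _ D (M1.one V) g')
    have hz : Gen z := (gen_tsec_iff (PicLoc.isInvertible_structureModule X) hD hxV _ _).mpr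
      ⟨gen_one x hxV, gen_of_isGenerator hg' hxV⟩
    let φ := M2.stMap ((M2.pmF X).map τ) x
    let z' := gm (CohB1.tensorMod M D) x hxV (tsec M D (res M hVU g) g')
    have hz' : Gen z' := (gen_tsec_iff hM hD hxV _ _).mpr
      ⟨gen_of_isGenerator (isGenerator_res hVU hg) hxV, gen_of_isGenerator hg' hxV⟩
    have hφ : φ z = X.presheaf.germ V x hxV a • z' := by
      refine (M2.stMap_sg ((M2.pmF X).map τ) hxV _).trans ?_
      change gm (CohB1.tensorMod M D) x hxV (τ.app V (tsec _ D (M1.one V) g')) = _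
      rw [M2.tensorMap_tsec, ← gm_smul, ← M2.tsec_smul_left, ha, res_gval]
      rfl
    intro p q hpq
    obtain ⟨r, rfl⟩ := hz.2 p
    obtain ⟨r', rfl⟩ := hz.2 q
    have hpq' : φ (r • z) = φ (r' • z) := hpq
    rw [map_smul, map_smul, hφ, ← mul_smul, ← mul_smul] at hpq'
    have h2 := hz'.1 hpq'
    rw [← sub_eq_zero, ← sub_mul] at h2
    have h3 : r - r' = 0 := by
      refine hs x _ ?_
      rw [← gm_res (le_top : V ≤ ⊤) hxV, ← ha, gm_smul, ← mul_smul, h2, zero_smul]
    rw [sub_eq_zero.mp h3]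
  let φ := (M2.tensorLUnit D).inv ≫ τ ≫ e.hom
  haveI : Mono φ := inferInstance
  haveI := M2.isQCoh_of_isFinLocFree (M2.isFinLocFree_of_isInvertible hD)
  obtain ⟨i⟩ := nonempty_iso_idealMod φ
  refine ⟨ofMono φ, isEffCartierIdeal_of_isInvertible _ (M2.isInvertible_of_iso i hD), ⟨i⟩, fun x hx hsup => ?_⟩
  obtain ⟨U, hU, hxU, hUG⟩ := exists_isAffineOpen_mem_and_subset (U := CohB1.genLocus M s) hx
  have hbij : Function.Bijective (φ.app U) := by
    have hτ : Function.Bijective (τ.app U) := by
      have hg : IsIso ((Scheme.Modules.restrictFunctor U.ι).map s) := by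
        rw [← secHom_gval s, Twist.isIso_restrict_secHom_iff]
        intro W hW
        have := isGenerator_genLocus hM s W (hW.trans hUG)
        simp only [res_res] at this
        exact this
      have hstalk : ∀ y ∈ U, Function.Bijective ((M1.stalkAb y).map τ) := fun y hy => by
        refine ⟨((M1.mono_iff_stalk τ).mp inferInstance) y, ?_⟩
        obtain ⟨V, g', hyV, -, -, hg'⟩ := exists_isGenerator hD (V := ⊤) (x := y) trivial
        have hgen : Gen (gm (CohB1.tensorMod M D) y hyV (tsec M D (s.app V (M1.one V)) g')) := by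
          refine (gen_tsec_iff hM hD hyV _ _).mpr ⟨?_, gen_of_isGenerator hg' hyV⟩
          rw [← res_gval, gm_res]
          exact (mem_genLocus_iff hM s).mp (hUG hy)
        intro p
        obtain ⟨r, rfl⟩ := hgen.2 p
        refine ⟨r • gm (CohB1.tensorMod (Coh.structureModule X) D) y hyV (tsec _ D (M1.one V) g'), ?_⟩
        change M2.stMap ((M2.pmF X).map τ) y (r • gm _ y hyV _) = r • _
        rw [map_smul]
        refine congrArg (r • ·) ((M2.stMap_sg ((M2.pmF X).map τ) hyV _).trans ?_)
        change gm (CohB1.tensorMod M D) y hyV (τ.app V (tsec _ D (M1.one V) g')) = _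
        rw [M2.tensorMap_tsec]
        rfl
      exact TopCat.Presheaf.app_bijective_of_stalkFunctor_map_bijective ((M1.toShAb X).map τ) U hstalk
    have h1 : Function.Bijective ((M2.tensorLUnit D).inv.app U) :=
      ConcreteCategory.bijective_of_isIso ((M2.tensorLUnit D).inv.app U)
    have h3 : Function.Bijective (e.hom.app U) := ConcreteCategory.bijective_of_isIso (e.hom.app U)
    exact h3.comp (hτ.comp h1)
  have htop : (ofMono φ).ideal ⟨U, hU⟩ = ⊤ := (Ideal.eq_top_iff_one _).mpr (hbij.2 (M1.one U))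
  have := (Scheme.IdealSheafData.mem_support_iff_of_mem (I := ofMono φ) (U := ⟨U, hU⟩) hxU).mp hsup
  rw [htop] at this
  rw [Scheme.mem_zeroLocus_iff] at this
  exact this 1 trivial (by rw [Scheme.basicOpen_of_isUnit _ isUnit_one]; exact hxU)

end Groth.Agent.SecDiv
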