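import Groth.Agent.Lib.SecDiv18.Stalk
import Groth.Agent.Lib.EffCartier.Mul
import Groth.Agent.Lib.RedSep.Basic
import Groth.Agent.Lib.WeakAss18.Push
import Mathlib.Algebra.BigOperators.Finsupp.Basic
import Mathlib.RingTheory.Ideal.Height
import Mathlib.Data.DFinsupp.WellFounded
import Mathlib.AlgebraicGeometry.Stalk

/-!
Splitting off prime divisors from an ideal sheaf.
-/

universe u

open CategoryTheory Limits AlgebraicGeometry TopologicalSpace Opposite
open scoped nonZeroDivisors

set_option backward.isDefEq.respectTransparency false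

namespace Groth.Agent.SecDiv

variable {X : Scheme.{u}}

theorem ringKrullDim_stalk_eq_height {U : X.Opens} (hU : IsAffineOpen U) {x : X} (hx : x ∈ U) :
    ringKrullDim (X.presheaf.stalk x) = (hU.primeIdealOf ⟨x, hx⟩).asIdeal.height := by
  let := TopCat.Presheaf.algebra_section_stalk X.presheaf (⟨x, hx⟩ : U)
  have := hU.isLocalization_stalk ⟨x, hx⟩
  exact IsLocalization.AtPrime.ringKrullDim_eq_height _ (X.presheaf.stalk x)

theorem prime_le_of_specializes {U : X.Opens} (hU : IsAffineOpen U) {x y : X} (hx : x ∈ U) (hy : y ∈ U) (h : y ⤳ x) :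
    (hU.primeIdealOf ⟨y, hy⟩).asIdeal ≤ (hU.primeIdealOf ⟨x, hx⟩).asIdeal := fun a ha => by
  by_contra hna
  have h1 := (X.mem_basicOpen a x hx).mpr ((M1.isUnit_germ_iff hU hx a).mpr hna)
  exact (M1.isUnit_germ_iff hU hy a).mp ((X.mem_basicOpen a y hy).mp (h.mem_open (X.basicOpen a).isOpen h1)) ha

theorem eq_of_prime_eq {U : X.Opens} (hU : IsAffineOpen U) {x y : X} (hx : x ∈ U) (hy : y ∈ U)
    (h : (hU.primeIdealOf ⟨y, hy⟩).asIdeal = (hU.primeIdealOf ⟨x, hx⟩).asIdeal) : y = x :=
  (hU.fromSpec_primeIdealOf ⟨y, hy⟩).symm.trans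
    ((congrArg hU.fromSpec (PrimeSpectrum.ext h)).trans (hU.fromSpec_primeIdealOf ⟨x, hx⟩))

/-- The dimension of the local rings grows along specialisation. -/
theorem ringKrullDim_stalk_mono {x y : X} (h : y ⤳ x) :
    ringKrullDim (X.presheaf.stalk y) ≤ ringKrullDim (X.presheaf.stalk x) := by
  obtain ⟨U, hU, hx, -⟩ := exists_isAffineOpen_mem_and_subset (U := (⊤ : X.Opens)) (x := x) trivial
  have hy : y ∈ U := h.mem_open U.isOpen hx
  rw [ringKrullDim_stalk_eq_height hU hx, ringKrullDim_stalk_eq_height hU hy, WithBot.coe_le_coe]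
  exact Ideal.height_mono (prime_le_of_specializes hU hx hy h)

theorem two_le_of_specializes [IsLocallyNoetherian X] {x y : X} (h : y ⤳ x) (hne : y ≠ x)
    (hy1 : ringKrullDim (X.presheaf.stalk y) = 1) : (2 : WithBot ℕ∞) ≤ ringKrullDim (X.presheaf.stalk x) := by
  obtain ⟨U, hU, hx, -⟩ := exists_isAffineOpen_mem_and_subset (U := (⊤ : X.Opens)) (x := x) trivial
  haveI : IsNoetherianRing Γ(X, U) := IsLocallyNoetherian.component_noetherian ⟨U, hU⟩
  have hy : y ∈ U := h.mem_open U.isOpen hx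
  have hlt : (hU.primeIdealOf ⟨y, hy⟩).asIdeal < (hU.primeIdealOf ⟨x, hx⟩).asIdeal := by
    refine lt_of_le_of_ne (prime_le_of_specializes hU hx hy h) fun he => hne ?_
    exact eq_of_prime_eq hU hx hy he
  rw [ringKrullDim_stalk_eq_height hU hy] at hy1
  rw [ringKrullDim_stalk_eq_height hU hx]
  have h1 : (hU.primeIdealOf ⟨y, hy⟩).asIdeal.height = 1 := by exact_mod_cast hy1
  have h2 := Ideal.height_strict_mono_of_isPrime hlt
  rw [h1] at h2
  have h3 := Order.add_one_le_of_lt h2
  rw [one_add_one_eq_two] at h3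
  exact WithBot.coe_le_coe.mpr h3

/-- A point of a closed subset specialises from a maximal one. -/
theorem exists_maximal_generisation [IsLocallyNoetherian X] (I : X.IdealSheafData) {z : X} (hz : z ∈ I.support) :
    ∃ y ∈ I.support, y ⤳ z ∧ ∀ w ∈ I.support, w ⤳ y → w = y := by
  obtain ⟨V, hV, hzV, -⟩ := exists_isAffineOpen_mem_and_subset (U := (⊤ : X.Opens)) (x := z) trivial
  have hle : I.ideal ⟨V, hV⟩ ≤ (hV.primeIdealOf ⟨z, hzV⟩).asIdeal := fun a ha => by
    by_contra hna
    rw [Scheme.IdealSheafData.mem_support_iff_of_mem (U := ⟨V, hV⟩) hzV, Scheme.mem_zeroLocus_iff] at hz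
    exact hz a ha ((X.mem_basicOpen a z hzV).mpr ((M1.isUnit_germ_iff hV hzV a).mpr hna))
  obtain ⟨p, hp, hpz⟩ := Ideal.exists_minimalPrimes_le hle
  haveI := hp.1.1
  obtain ⟨y, hy, hyu⟩ := WA.exists_point hV p
  refine ⟨y, ?_, WA.specializes_of_isUnit hV hzV hy fun a ha => (hyu a).mpr fun h => (M1.isUnit_germ_iff hV hzV a).mp ha (hpz h),
    fun w hw hwy => ?_⟩
  · rw [Scheme.IdealSheafData.mem_support_iff_of_mem (U := ⟨V, hV⟩) hy, Scheme.mem_zeroLocus_iff]
    exact fun a ha hya => (hyu a).mp ((X.mem_basicOpen a y hy).mp hya) (hp.1.2 ha)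
  · have hwV : w ∈ V := hwy.mem_open V.isOpen hy
    have hPy : (hV.primeIdealOf ⟨y, hy⟩).asIdeal = p := by
      ext a
      exact not_iff_not.mp ((M1.isUnit_germ_iff hV hy a).symm.trans (hyu a))
    have hle' := hPy ▸ prime_le_of_specializes hV hy hwV hwy
    have hIw : I.ideal ⟨V, hV⟩ ≤ (hV.primeIdealOf ⟨w, hwV⟩).asIdeal := fun a ha => by
      by_contra hna
      rw [Scheme.IdealSheafData.mem_support_iff_of_mem (U := ⟨V, hV⟩) hwV, Scheme.mem_zeroLocus_iff] at hw
      exact hw a ha ((X.mem_basicOpen a w hwV).mpr ((M1.isUnit_germ_iff hV hwV a).mpr hna))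
    have he := le_antisymm hle' (hp.2 ⟨inferInstance, hIw⟩ hle')
    exact eq_of_prime_eq hV hy hwV (he.trans hPy.symm)

/-- A point of an effective Cartier divisor has a proper generisation. -/
theorem exists_proper_generisation {E : X.IdealSheafData} (hE : BlowUp.IsEffCartierIdeal E) {z : X} (hz : z ∈ E.support) :
    ∃ y : X, y ⤳ z ∧ y ≠ z := by
  obtain ⟨U, hzU, f, -, hnzd, hmem, -⟩ := exists_stalk_eqn hE hz
  obtain ⟨q, hq, -⟩ := Ideal.exists_minimalPrimes_le (bot_le : ⊥ ≤ IsLocalRing.maximalIdeal (X.presheaf.stalk z))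
  haveI := hq.1.1
  refine ⟨X.fromSpecStalk z ⟨q, inferInstance⟩, (Scheme.range_fromSpecStalk (X := X) (x := z)).le ⟨_, rfl⟩, fun he => ?_⟩
  replace he := he.trans (Scheme.fromSpecStalk_closedPoint (X := X) (x := z)).symm
  have hqe : q = IsLocalRing.maximalIdeal (X.presheaf.stalk z) :=
    congrArg PrimeSpectrum.asIdeal ((X.fromSpecStalk z).isEmbedding.injective he)
  exact Set.disjoint_left.mp (Ideal.disjoint_nonZeroDivisors_of_mem_minimalPrimes hq) (hqe ▸ hmem) hnzd

/-- Ideal sheaves on a noetherian scheme satisfy the ascending chain condition. -/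
theorem wellFoundedGT [IsNoetherian X] : WellFoundedGT X.IdealSheafData := by
  classical
  choose W hW hxW _ using fun x : X => exists_isAffineOpen_mem_and_subset (U := (⊤ : X.Opens)) (x := x) trivial
  obtain ⟨T, hT⟩ := isCompact_univ.elim_finite_subcover (fun x : X => (W x : Set X)) (fun x => (W x).isOpen)
    (fun x _ => Set.mem_iUnion.mpr ⟨x, hxW x⟩)
  haveI : ∀ j : T, WellFoundedGT (Ideal Γ(X, W j)) := fun j =>
    haveI : IsNoetherianRing Γ(X, W j) := IsLocallyNoetherian.component_noetherian ⟨W j, hW j⟩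
    inferInstance
  haveI : ∀ j : T, WellFoundedLT (Ideal Γ(X, W j))ᵒᵈ := fun j => inferInstance
  haveI : WellFoundedGT ((j : T) → Ideal Γ(X, W j)) :=
    ⟨((InvImage.wf (fun f (j : T) => OrderDual.toDual (f j))
      (Pi.wellFoundedLT (α := fun j : T => (Ideal Γ(X, W j))ᵒᵈ)).wf).mono fun f g hfg =>
        ⟨fun j => hfg.le j, fun hc => hfg.not_ge fun j => hc j⟩)⟩
  refine StrictMono.wellFoundedGT (f := fun (I : X.IdealSheafData) (j : T) => I.ideal ⟨W j, hW j⟩) fun I J h => ?_
  refine lt_of_le_of_ne (fun j => h.le _) fun he => h.ne ?_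
  refine EffCartier.eq_of_forall_exists fun x => ?_
  obtain ⟨j, hj, hxj⟩ := Set.mem_iUnion₂.mp (hT (Set.mem_univ x))
  exact ⟨⟨W j, hW j⟩, hxj, congrFun he ⟨j, hj⟩⟩

section family

variable {ι : Type*} (E : ι → X.IdealSheafData)

/-- If an effective Cartier divisor is split off without enlarging the ideal, a maximal point of the scheme
lies in the zero locus. -/
theorem exists_maximal_of_colon_eq [IsLocallyNoetherian X] {I E : X.IdealSheafData} (hE : BlowUp.IsEffCartierIdeal E)
    (h : I * E = I) {z : X} (hz : z ∈ E.support) : ∃ y ∈ I.support, y ⤳ z ∧ ∀ w : X, w ⤳ y → w = y := by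
  obtain ⟨U, hzU, f, hf, -, hmem, -⟩ := exists_stalk_eqn hE hz
  haveI : IsNoetherianRing Γ(X, U.1) := IsLocallyNoetherian.component_noetherian U
  let φ := (X.presheaf.germ U.1 z hzU).hom
  have hJ : (I.ideal U).map φ ≤ Ideal.span {φ f} • (I.ideal U).map φ := by
    have h1 : I.ideal U * E.ideal U = I.ideal U := congrFun (congrArg (fun J : X.IdealSheafData => J.ideal) h) U
    conv_lhs => rw [← h1, hf, Ideal.map_mul, Ideal.map_span, Set.image_singleton]
    rw [smul_eq_mul, mul_comm]
  have h0 : (I.ideal U).map φ = ⊥ :=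
    Submodule.eq_bot_of_le_smul_of_le_jacobson_bot _ _ (Ideal.FG.map (IsNoetherian.noetherian _) φ) hJ
      (((Ideal.span_singleton_le_iff_mem _).mpr hmem).trans (IsLocalRing.maximalIdeal_le_jacobson ⊥))
  obtain ⟨q, hq, hqz⟩ := Ideal.exists_minimalPrimes_le (bot_le : ⊥ ≤ (U.2.primeIdealOf ⟨z, hzU⟩).asIdeal)
  haveI := hq.1.1
  obtain ⟨y, hy, hyu⟩ := WA.exists_point U.2 q
  have hPy : (U.2.primeIdealOf ⟨y, hy⟩).asIdeal = q := by
    ext a
    exact not_iff_not.mp ((M1.isUnit_germ_iff U.2 hy a).symm.trans (hyu a))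
  refine ⟨y, ?_, WA.specializes_of_isUnit U.2 hzU hy fun a ha => (hyu a).mpr fun h => (M1.isUnit_germ_iff U.2 hzU a).mp ha (hqz h),
    fun w hwy => ?_⟩
  · rw [Scheme.IdealSheafData.mem_support_iff_of_mem hy, Scheme.mem_zeroLocus_iff]
    intro a ha hya
    have h1 : φ a = 0 := by
      have := Ideal.mem_map_of_mem φ ha
      rwa [h0, Ideal.mem_bot] at this
    let := TopCat.Presheaf.algebra_section_stalk X.presheaf (⟨z, hzU⟩ : U.1)
    have := U.2.isLocalization_stalk ⟨z, hzU⟩
    obtain ⟨⟨s, hs⟩, hsa⟩ := (IsLocalization.map_eq_zero_iff (U.2.primeIdealOf ⟨z, hzU⟩).asIdeal.primeCompl _ _).mp h1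
    refine (hyu a).mp ((X.mem_basicOpen a y hy).mp hya) ?_
    exact (hq.1.1.mem_or_mem (hsa ▸ q.zero_mem)).resolve_left fun hsq => hs (hqz hsq)
  · have hwU : w ∈ U.1 := hwy.mem_open U.1.isOpen hy
    have hle := hPy ▸ prime_le_of_specializes U.2 hy hwU hwy
    have he := le_antisymm hle (hq.2 ⟨inferInstance, bot_le⟩ hle)
    exact eq_of_prime_eq U.2 hy hwU (he.trans hPy.symm)

theorem ringKrullDim_generic [IsLocallyNoetherian X] {E : X.IdealSheafData} (hE : BlowUp.IsEffCartierIdeal E) {x : X}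
    (hx : x ∈ E.support) (hmax : ∀ y ∈ (E.support : Set X), y ⤳ x → y = x) : ringKrullDim (X.presheaf.stalk x) = 1 := by
  obtain ⟨U, hxU, f, -, h1, h2, h3⟩ := exists_stalk_eqn hE hx
  exact ringKrullDim_eq_one h1 h2 (h3 hmax)

/-- An integral closed subscheme given by an effective Cartier divisor has a generic point. -/
theorem exists_generic {E : X.IdealSheafData} (hint : IsIntegral E.subscheme) :
    ∃ x : X, x ∈ E.support ∧ (E.support : Set X) = closure {x} := by
  haveI := hint
  have h := ((genericPoint_spec E.subscheme).image E.subschemeι.continuous).def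
  rw [Set.image_univ, E.range_subschemeι, E.support.isClosed.closure_eq] at h
  exact ⟨_, E.range_subschemeι.le ⟨_, rfl⟩, h.symm⟩

theorem le_of_support {E R : X.IdealSheafData} (hint : IsIntegral E.subscheme) (h : (E.support : Set X) ⊆ R.support) : R ≤ E := by
  haveI := hint
  have he : E = Scheme.IdealSheafData.vanishingIdeal (Closeds.closure (Set.range E.subschemeι)) := by
    rw [← RedSepLib.ker_eq_vanishingIdeal, Scheme.IdealSheafData.ker_subschemeι]
  rw [he]
  refine Scheme.IdealSheafData.le_support_iff_le_vanishingIdeal.mp ?_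
  change closure (Set.range E.subschemeι) ⊆ (R.support : Set X)
  rw [E.range_subschemeι, E.support.isClosed.closure_eq]
  exact h

/-- Split off the divisors as long as possible. -/
theorem exists_peel [IsNoetherian X] (hE : ∀ i, BlowUp.IsEffCartierIdeal (E i)) (Z : X.IdealSheafData)
    (hZ : ∀ i (I : X.IdealSheafData), Z ≤ I → I ≤ E i → I * E i ≠ I) :
    ∃ (a : ι →₀ ℕ) (R : X.IdealSheafData), Z = (a.prod fun i n => E i ^ n) * R ∧ Z ≤ R ∧ ∀ i, ¬ R ≤ E i := by
  haveI := wellFoundedGT (X := X)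
  have key : ∀ I : X.IdealSheafData, Z ≤ I →
      ∃ (a : ι →₀ ℕ) (R : X.IdealSheafData), I = (a.prod fun i n => E i ^ n) * R ∧ I ≤ R ∧ ∀ i, ¬ R ≤ E i := by
    intro I
    induction I using (wellFounded_gt (α := X.IdealSheafData)).induction with
    | _ I ih =>
      intro hI
      by_cases hi : ∃ i, I ≤ E i
      · obtain ⟨i, hi⟩ := hi
        let I' := EffCartier.colon I (hE i)
        have hm : I' * E i = I := EffCartier.colon_mul (hE i) hi
        have hle : I ≤ I' := hm ▸ fun U => by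
          rw [Scheme.IdealSheafData.ideal_mul, Pi.mul_apply]
          exact Ideal.mul_le_left
        have hlt : I < I' := lt_of_le_of_ne hle fun he => hZ i I hI hi (by rwa [← he] at hm)
        obtain ⟨a, R, h1, h2, h3⟩ := ih I' hlt (hI.trans hle)
        classical
        refine ⟨a + Finsupp.single i 1, R, ?_, hle.trans h2, h3⟩
        rw [Finsupp.prod_add_index' (fun j => pow_zero _) (fun j m n => pow_add _ m n),
          Finsupp.prod_single_index (h := fun j n => E j ^ n) (pow_zero _), pow_one, ← hm, h1, mul_right_comm]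
      · exact ⟨0, I, by rw [Finsupp.prod_zero_index, one_mul], le_rfl, fun i h => hi ⟨i, h⟩⟩
  exact key Z le_rfl

theorem mul_top' (A : X.IdealSheafData) : A * ⊤ = A := mul_one A

theorem comap_eq_of_peel {Z P R : X.IdealSheafData} (h : Z = P * R) :
    P.comap (Scheme.Opens.ι R.support.compl) = Z.comap (Scheme.Opens.ι R.support.compl) := by
  rw [h, EffCartier.comap_mul, EffCartier.comap_eq_top R (Scheme.Opens.ι R.support.compl) (fun x : ↥(↑(R.support.compl : X.Opens) : Scheme.{u}) => x.2), mul_top']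

end family

end Groth.Agent.SecDiv
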