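import Groth.Agent.Lib.EffCartier.Basic
import Groth.Agent.Lib.ModM1.Stalk
import Mathlib.AlgebraicGeometry.Noetherian
import Mathlib.RingTheory.Ideal.KrullsHeightTheorem
import Mathlib.RingTheory.DiscreteValuationRing.TFAE

/-!
Local rings at points of effective Cartier divisors.
-/

universe u

open CategoryTheory Limits AlgebraicGeometry TopologicalSpace Opposite
open scoped nonZeroDivisors

set_option backward.isDefEq.respectTransparency false

namespace Groth.Agent.SecDiv

variable {X : Scheme.{u}} {D : X.IdealSheafData}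

theorem isUnit_germ_iff' {U : X.Opens} (hU : IsAffineOpen U) {x : X} (hx : x ∈ U) (r : Γ(X, U)) :
    IsUnit (X.presheaf.germ U x hx r) ↔ r ∈ (hU.primeIdealOf ⟨x, hx⟩).asIdeal.primeCompl :=
  M1.isUnit_germ_iff hU hx r

/-- The equation vanishes at the point. -/
theorem germ_mem_maximalIdeal (U : X.affineOpens) {x : X} (hxU : x ∈ U.1) (f : Γ(X, U.1))
    (hI : D.ideal U = Ideal.span {f}) (hx : x ∈ (D.support : Set X)) :
    X.presheaf.germ U.1 x hxU f ∈ IsLocalRing.maximalIdeal (X.presheaf.stalk x) := by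
  refine (IsLocalRing.mem_maximalIdeal _).mpr fun hu => ?_
  have hx' : x ∈ D.support := hx
  rw [Scheme.IdealSheafData.mem_support_iff_of_mem hxU, hI, Scheme.zeroLocus_span, Scheme.mem_zeroLocus_iff] at hx'
  exact hx' f rfl ((X.mem_basicOpen f x hxU).mpr hu)

/-- At a maximal point of the zero locus only the maximal ideal contains the equation. -/
theorem prime_eq_maximalIdeal (U : X.affineOpens) {x : X} (hxU : x ∈ U.1) (f : Γ(X, U.1))
    (hI : D.ideal U = Ideal.span {f}) (hgen : ∀ y ∈ (D.support : Set X), y ⤳ x → y = x)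
    (q : Ideal (X.presheaf.stalk x)) (hq : q.IsPrime) (hfq : X.presheaf.germ U.1 x hxU f ∈ q) :
    q = IsLocalRing.maximalIdeal (X.presheaf.stalk x) := by
  let := TopCat.Presheaf.algebra_section_stalk X.presheaf (⟨x, hxU⟩ : U.1)
  have := U.2.isLocalization_stalk ⟨x, hxU⟩
  let P := U.2.primeIdealOf ⟨x, hxU⟩
  let q' : PrimeSpectrum Γ(X, U.1) := ⟨q.comap (algebraMap Γ(X, U.1) (X.presheaf.stalk x)), inferInstance⟩
  have hle : q'.asIdeal ≤ P.asIdeal := fun a ha => by
    by_contra haP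
    exact hq.ne_top (Ideal.eq_top_of_isUnit_mem _ ha ((M1.isUnit_germ_iff U.2 hxU a).mpr haP))
  let y := U.2.fromSpec q'
  have hyU : y ∈ U.1 := U.2.range_fromSpec.le ⟨q', rfl⟩
  have hy : y ∈ D.support := by
    rw [Scheme.IdealSheafData.mem_support_iff_of_mem hyU, hI, Scheme.zeroLocus_span, Scheme.mem_zeroLocus_iff]
    intro a ha hya
    rw [Set.mem_singleton_iff] at ha
    subst ha
    have : q' ∈ U.2.fromSpec ⁻¹ᵁ X.basicOpen a := hya
    rw [U.2.fromSpec_preimage_basicOpen] at this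
    exact this hfq
  have hyx : y ⤳ x := by
    have h2 := ((PrimeSpectrum.le_iff_specializes q' P).mp hle).map U.2.fromSpec.continuous
    rw [U.2.fromSpec_primeIdealOf ⟨x, hxU⟩] at h2
    exact h2
  have hqP : q' = P := U.2.fromSpec.isOpenEmbedding.injective
    ((hgen y hy hyx).trans (U.2.fromSpec_primeIdealOf ⟨x, hxU⟩).symm)
  refine le_antisymm (IsLocalRing.le_maximalIdeal hq.ne_top) fun z hz => ?_
  obtain ⟨⟨a, c⟩, h⟩ := IsLocalization.surj P.asIdeal.primeCompl z
  have hu := (M1.isUnit_germ_iff U.2 hxU c.1).mpr c.2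
  have ha : a ∈ q'.asIdeal := by
    rw [hqP]
    by_contra haP
    have h2 := (M1.isUnit_germ_iff U.2 hxU a).mpr haP
    change IsUnit (algebraMap Γ(X, U.1) (X.presheaf.stalk x) a) at h2
    rw [← h, IsUnit.mul_iff] at h2
    exact (IsLocalRing.mem_maximalIdeal _).mp hz h2.1
  have : z * algebraMap Γ(X, U.1) (X.presheaf.stalk x) c ∈ q := h ▸ ha
  exact (hq.mem_or_mem this).resolve_right fun hc => hq.ne_top (Ideal.eq_top_of_isUnit_mem _ hc hu)

/-- The equation in the local ring at a point of an effective Cartier divisor. -/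
theorem exists_stalk_eqn (hD : BlowUp.IsEffCartierIdeal D) {x : X} (hx : x ∈ (D.support : Set X)) :
    ∃ (U : X.affineOpens) (hxU : x ∈ U.1) (f : Γ(X, U.1)), D.ideal U = Ideal.span {f} ∧
      X.presheaf.germ U.1 x hxU f ∈ (X.presheaf.stalk x)⁰ ∧
      X.presheaf.germ U.1 x hxU f ∈ IsLocalRing.maximalIdeal (X.presheaf.stalk x) ∧
      ((∀ y ∈ (D.support : Set X), y ⤳ x → y = x) → ∀ q : Ideal (X.presheaf.stalk x), q.IsPrime →
        X.presheaf.germ U.1 x hxU f ∈ q → q = IsLocalRing.maximalIdeal (X.presheaf.stalk x)) := by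
  obtain ⟨U, hxU, f, hf, hI⟩ := hD x
  let := TopCat.Presheaf.algebra_section_stalk X.presheaf (⟨x, hxU⟩ : U.1)
  have := U.2.isLocalization_stalk ⟨x, hxU⟩
  exact ⟨U, hxU, f, hI, IsLocalization.map_nonZeroDivisors_le (U.2.primeIdealOf ⟨x, hxU⟩).asIdeal.primeCompl _
    ⟨f, hf, rfl⟩, germ_mem_maximalIdeal U hxU f hI hx, prime_eq_maximalIdeal U hxU f hI⟩

/-- A Noetherian local ring in which only the maximal ideal contains a nonzerodivisor of it. -/
theorem ringKrullDim_eq_one {R : Type u} [CommRing R] [IsLocalRing R] [IsNoetherianRing R] {g : R} (hg : g ∈ R⁰)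
    (hgm : g ∈ IsLocalRing.maximalIdeal R)
    (h : ∀ q : Ideal R, q.IsPrime → g ∈ q → q = IsLocalRing.maximalIdeal R) : ringKrullDim R = 1 := by
  rw [← IsLocalRing.maximalIdeal_height_eq_ringKrullDim]
  have h1 : (IsLocalRing.maximalIdeal R) ∈ (Ideal.span {g}).minimalPrimes :=
    ⟨⟨inferInstance, (Ideal.span_singleton_le_iff_mem _).mpr hgm⟩, fun q hq _ =>
      (h q hq.1 (hq.2 (Ideal.subset_span rfl))).ge⟩
  have hle : (IsLocalRing.maximalIdeal R).height ≤ 1 := Ideal.height_le_one_of_isPrincipal_of_mem_minimalPrimes _ _ h1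
  have hge : (IsLocalRing.maximalIdeal R).height ≠ 0 := by
    intro h0
    have hmin := Ideal.height_eq_zero_iff.mp h0
    exact absurd hg (Set.disjoint_left.mp (Ideal.disjoint_nonZeroDivisors_of_mem_minimalPrimes hmin) hgm)
  rw [le_antisymm hle (Order.one_le_iff_ne_zero.mpr hge)]
  rfl

/-- A Noetherian local ring with maximal ideal generated by a nonzerodivisor. -/
theorem exists_isDiscreteValuationRing {R : Type u} [CommRing R] [IsLocalRing R] [IsNoetherianRing R] {g : R}
    (hg : g ∈ R⁰) (hm : IsLocalRing.maximalIdeal R = Ideal.span {g}) :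
    ∃ _ : IsDomain R, IsDiscreteValuationRing R := by
  have key : ∀ a : R, a ≠ 0 → ∃ (n : ℕ) (v : Rˣ), a = v * g ^ n := by
    intro a ha
    obtain ⟨n, hn, hn'⟩ : ∃ n, a ∈ Ideal.span {g ^ n} ∧ a ∉ Ideal.span {g ^ (n + 1)} := by
      by_contra hc
      push Not at hc
      have hall : ∀ n, a ∈ Ideal.span {g ^ n} := fun n => by
        induction n with
        | zero => simp
        | succ n ih => exact hc n ih
      have hinf := Ideal.iInf_pow_eq_bot_of_isLocalRing (IsLocalRing.maximalIdeal R) (Ideal.IsPrime.ne_top inferInstance)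
      refine ha ((Submodule.mem_bot R).mp (hinf ▸ (Submodule.mem_iInf _).mpr fun n => ?_))
      rw [hm, Ideal.span_singleton_pow]
      exact hall n
    obtain ⟨v, rfl⟩ := Ideal.mem_span_singleton'.mp hn
    have hv : IsUnit v := by
      by_contra hv
      have : v ∈ Ideal.span {g} := hm ▸ hv
      obtain ⟨w, rfl⟩ := Ideal.mem_span_singleton'.mp this
      exact hn' (Ideal.mem_span_singleton'.mpr ⟨w, by ring⟩)
    exact ⟨n, hv.unit, rfl⟩
  haveI : NoZeroDivisors R := ⟨fun {a b} hab => by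
    by_contra hc
    push Not at hc
    obtain ⟨n, v, rfl⟩ := key a hc.1
    obtain ⟨m, w, rfl⟩ := key b hc.2
    have : (g ^ (n + m)) * ((v : R) * w) = 0 := by rw [← hab]; ring
    have h2 := (mul_right_mem_nonZeroDivisors_eq_zero_iff (pow_mem hg (n + m))).mp ((mul_comm _ _).trans this)
    exact (v * w).ne_zero h2⟩
  haveI : IsDomain R := NoZeroDivisors.to_isDomain R
  refine ⟨inferInstance, IsDiscreteValuationRing.ofHasUnitMulPowIrreducibleFactorization ⟨g, ?_, fun {a} ha => ?_⟩⟩
  · have hg0 : g ≠ 0 := nonZeroDivisors.ne_zero hg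
    refine ⟨fun hu => ?_, fun a b hab => ?_⟩
    · exact (IsLocalRing.maximalIdeal.isMaximal R).ne_top (hm ▸ Ideal.span_singleton_eq_top.mpr hu)
    · by_contra hc
      push Not at hc
      have ha : a ∈ Ideal.span {g} := hm ▸ hc.1
      have hb : b ∈ Ideal.span {g} := hm ▸ hc.2
      obtain ⟨a, rfl⟩ := Ideal.mem_span_singleton'.mp ha
      obtain ⟨b, rfl⟩ := Ideal.mem_span_singleton'.mp hb
      refine (IsLocalRing.maximalIdeal.isMaximal R).ne_top ((Ideal.eq_top_iff_one _).mpr ?_)
      have h1 : 1 = (a * b) * g := mul_right_cancel₀ hg0 (by rw [one_mul]; exact hab.trans (by ring))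
      rw [hm, Ideal.mem_span_singleton']
      exact ⟨a * b, h1.symm⟩
  · obtain ⟨n, v, rfl⟩ := key a ha
    exact ⟨n, ⟨v, mul_comm _ _⟩⟩

end Groth.Agent.SecDiv
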