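import Groth.Agent.Lib.SecDiv18.Stalk
import Groth.Agent.Lib.WeakAss18.Push
import Mathlib.AlgebraicGeometry.Morphisms.ClosedImmersion
import Mathlib.RingTheory.UniqueFactorizationDomain.Kaplansky
import Mathlib.RingTheory.Ideal.AssociatedPrime.Basic

/-!
Ideal sheaves that are locally principal for factorial reasons.
-/

universe u

open CategoryTheory Limits AlgebraicGeometry TopologicalSpace Opposite

set_option backward.isDefEq.respectTransparency false

namespace Groth.Agent.SecDiv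

section algebra

variable {R : Type u} [CommRing R] [IsDomain R] [IsNoetherianRing R]

/-- An ideal all whose associated primes are principal is principal. -/
theorem principal_of_ass [UniqueFactorizationMonoid R] (J : Ideal R)
    (h : ∀ q : Ideal R, IsAssociatedPrime q (R ⧸ J) → ∃ p, Prime p ∧ q = Ideal.span {p}) :
    ∃ g, g ≠ 0 ∧ J = Ideal.span {g} := by
  have key : ∀ j : R, j ≠ 0 → ∀ J : Ideal R, j ∈ J →
      (∀ q : Ideal R, IsAssociatedPrime q (R ⧸ J) → ∃ p, Prime p ∧ q = Ideal.span {p}) →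
      ∃ g, g ≠ 0 ∧ J = Ideal.span {g} := by
    intro j
    induction j using (wellFounded_dvdNotUnit (α := R)).induction with
    | _ j ih =>
      intro hj J hjJ hJ
      rcases subsingleton_or_nontrivial (R ⧸ J) with hs | hn
      · exact ⟨1, one_ne_zero, by rw [Ideal.span_singleton_one]; exact Ideal.Quotient.subsingleton_iff.mp hs⟩
      obtain ⟨q, hq⟩ := associatedPrimes.nonempty R (R ⧸ J)
      obtain ⟨p, hp, rfl⟩ := hJ q hq
      have hJp : J ≤ Ideal.span {p} := fun a ha => by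
        refine IsAssociatedPrime.annihilator_le hq (Submodule.mem_annihilator.mpr fun m _ => ?_)
        obtain ⟨b, rfl⟩ := Ideal.Quotient.mk_surjective m
        change Ideal.Quotient.mk J (a * b) = 0
        exact Ideal.Quotient.eq_zero_iff_mem.mpr (J.mul_mem_right b ha)
      let J' : Ideal R := Submodule.comap (LinearMap.mulLeft R p) J
      have hmem : ∀ a, a ∈ J' ↔ p * a ∈ J := fun a => Iff.rfl
      obtain ⟨j', rfl⟩ := Ideal.mem_span_singleton'.mp (hJp hjJ)
      have hj' : j' ≠ 0 := fun h0 => hj (by rw [h0, zero_mul])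
      obtain ⟨g, hg, hgJ⟩ := ih j' ⟨hj', p, hp.not_unit, rfl⟩ hj' J' ((hmem j').mpr (by rwa [mul_comm])) fun q hq' =>
        hJ q (IsAssociatedPrime.map_of_injective (f := Submodule.mapQ J' J (LinearMap.mulLeft R p) le_rfl) hq' (by
          rw [← LinearMap.ker_eq_bot, LinearMap.ker_eq_bot']
          intro m
          obtain ⟨b, rfl⟩ := Submodule.Quotient.mk_surjective _ m
          rw [Submodule.mapQ_apply, Submodule.Quotient.mk_eq_zero, Submodule.Quotient.mk_eq_zero]
          exact (hmem b).mpr))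
      refine ⟨p * g, mul_ne_zero hp.ne_zero hg, le_antisymm (fun a ha => ?_) ?_⟩
      · obtain ⟨b, rfl⟩ := Ideal.mem_span_singleton'.mp (hJp ha)
        have hb : b ∈ J' := (hmem b).mpr (by rwa [mul_comm])
        rw [hgJ, Ideal.mem_span_singleton'] at hb
        obtain ⟨c, rfl⟩ := hb
        exact Ideal.mem_span_singleton'.mpr ⟨c, by ring⟩
      · rw [Ideal.span_singleton_le_iff_mem]
        exact (hmem g).mp (hgJ.ge (Ideal.subset_span rfl))
  by_cases hJ : J = ⊥
  · subst hJ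
    obtain ⟨q, hq⟩ := associatedPrimes.nonempty R (R ⧸ (⊥ : Ideal R))
    obtain ⟨p, hp, rfl⟩ := h q hq
    obtain ⟨-, m, hm⟩ := isAssociatedPrime_iff.mp hq
    obtain ⟨b, rfl⟩ := Ideal.Quotient.mk_surjective m
    have hpm : p ∈ Ideal.span {p} := Ideal.subset_span rfl
    rw [hm, Submodule.mem_colon_singleton, Submodule.mem_bot] at hpm
    have hpb : p * b = 0 := by
      have := Ideal.Quotient.eq_zero_iff_mem.mp (show Ideal.Quotient.mk (⊥ : Ideal R) (p * b) = 0 from hpm)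
      exact Ideal.mem_bot.mp this
    have h1 : (1 : R) ∈ Ideal.span {p} := by
      rw [hm, Submodule.mem_colon_singleton, Submodule.mem_bot, (mul_eq_zero.mp hpb).resolve_left hp.ne_zero, map_zero, smul_zero]
    exact absurd (isUnit_of_dvd_one (Ideal.mem_span_singleton.mp h1)) hp.not_unit
  · obtain ⟨j, hjJ, hj⟩ := Submodule.exists_mem_ne_zero_of_ne_bot hJ
    exact key j hj J hjJ h

end algebra

variable {X : Scheme.{u}} (𝓘 : X.IdealSheafData)

/-- The kernel of the stalk map of a closed subscheme. -/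
theorem mem_ker_stalkMap_iff (U : X.affineOpens) (d : 𝓘.subscheme) (hd : 𝓘.subschemeι d ∈ U.1) (a : Γ(X, U.1)) :
    𝓘.subschemeι.stalkMap d (X.presheaf.germ U.1 _ hd a) = 0 ↔
      ∃ e : Γ(X, U.1), IsUnit (X.presheaf.germ U.1 _ hd e) ∧ e * a ∈ 𝓘.ideal U := by
  let ι := 𝓘.subschemeι
  rw [Scheme.Hom.germ_stalkMap_apply ι U.1 d hd a]
  let := TopCat.Presheaf.algebra_section_stalk 𝓘.subscheme.presheaf (⟨d, hd⟩ : (ι ⁻¹ᵁ U.1 : 𝓘.subscheme.Opens))
  have := (U.2.preimage ι).isLocalization_stalk ⟨d, hd⟩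
  constructor
  · intro h0
    obtain ⟨⟨s, hs'⟩, hsa⟩ := (IsLocalization.map_eq_zero_iff
      ((U.2.preimage ι).primeIdealOf ⟨d, hd⟩).asIdeal.primeCompl _ _).mp h0
    obtain ⟨e, rfl⟩ := 𝓘.subschemeι_app_surjective U s
    refine ⟨e, ?_, ?_⟩
    · refine (isUnit_map_iff (ι.stalkMap d).hom _).mp ?_
      change IsUnit (ι.stalkMap d _)
      rw [Scheme.Hom.germ_stalkMap_apply ι U.1 d hd e]
      exact (M1.isUnit_germ_iff (U.2.preimage ι) hd _).mpr hs'
    · rw [← 𝓘.ker_subschemeι_app U, RingHom.mem_ker, map_mul]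
      exact hsa
  · rintro ⟨e, he, hea⟩
    rw [← 𝓘.ker_subschemeι_app U, RingHom.mem_ker, map_mul] at hea
    have h1 := congrArg (𝓘.subscheme.presheaf.germ (ι ⁻¹ᵁ U.1) d hd) hea
    rw [map_mul, map_zero] at h1
    refine (IsUnit.mul_right_eq_zero ?_).mp h1
    rw [← Scheme.Hom.germ_stalkMap_apply ι U.1 d hd e]
    exact he.map _

/-- Associated primes of the stalk of an ideal sheaf without embedded points in codimension one are principal. -/
theorem exists_prime_of_ass [IsLocallyNoetherian X]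
    (h1 : ∀ z : ↥𝓘.subscheme, IsAssociatedPrime (IsLocalRing.maximalIdeal ↑(𝓘.subscheme.presheaf.stalk z)) ↑(𝓘.subscheme.presheaf.stalk z) → ∀ z' : ↥𝓘.subscheme, z' ⤳ z → z' = z)
    (h2 : ∀ z : ↥𝓘.subscheme, (∀ z' : ↥𝓘.subscheme, z' ⤳ z → z' = z) →
      ringKrullDim (X.presheaf.stalk (𝓘.subschemeι z)) = 1)
    (U : X.affineOpens) {x : X} (hx : x ∈ U.1)
    (hdom : IsDomain (X.presheaf.stalk x)) (hufd : UniqueFactorizationMonoid (X.presheaf.stalk x))
    (q : Ideal (X.presheaf.stalk x))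
    (hq : IsAssociatedPrime q ((X.presheaf.stalk x : Type u) ⧸ (𝓘.ideal U).map (X.presheaf.germ U.1 x hx).hom)) :
    ∃ p, Prime p ∧ q = Ideal.span {p} := by
  haveI := hdom
  haveI := hufd
  haveI : IsNoetherianRing Γ(X, U.1) := IsLocallyNoetherian.component_noetherian U
  let A := X.presheaf.stalk x
  let := TopCat.Presheaf.algebra_section_stalk X.presheaf (⟨x, hx⟩ : U.1)
  have := U.2.isLocalization_stalk ⟨x, hx⟩
  let φ := algebraMap Γ(X, U.1) A
  obtain ⟨hqp, m, hm⟩ := isAssociatedPrime_iff.mp hq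
  haveI := hqp
  have hqm : ∀ w : A, w ∈ q ↔ w • m = 0 := fun w => by rw [hm, Submodule.mem_colon_singleton, Submodule.mem_bot]
  obtain ⟨z, hz, hzu⟩ := WA.exists_point U.2 (q.comap φ)
  have hzx : z ⤳ x := WA.specializes_of_isUnit U.2 hx hz fun b hb =>
    (hzu b).mpr fun hbq => hqp.ne_top (Ideal.eq_top_of_isUnit_mem _ hbq hb)
  have hIq : ∀ a ∈ 𝓘.ideal U, φ a ∈ q := fun a ha => by
    refine (hqm _).mpr ?_
    obtain ⟨b, rfl⟩ := Ideal.Quotient.mk_surjective m
    change Ideal.Quotient.mk _ (φ a * b) = 0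
    exact Ideal.Quotient.eq_zero_iff_mem.mpr (Ideal.mul_mem_right _ _ (Ideal.mem_map_of_mem _ ha))
  obtain ⟨d, hd⟩ : z ∈ Set.range 𝓘.subschemeι := by
    refine 𝓘.range_subschemeι.ge ?_
    change z ∈ 𝓘.support
    rw [Scheme.IdealSheafData.mem_support_iff_of_mem hz, Scheme.mem_zeroLocus_iff]
    exact fun a ha hza => (hzu a).mp ((X.mem_basicOpen a z hz).mp hza) (hIq a ha)
  subst hd
  let zz := 𝓘.subschemeι d
  let := TopCat.Presheaf.algebra_section_stalk X.presheaf (⟨zz, hz⟩ : U.1)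
  have := U.2.isLocalization_stalk ⟨zz, hz⟩
  have hzx' : ∀ b : Γ(X, U.1), IsUnit (X.presheaf.germ U.1 x hx b) → IsUnit (X.presheaf.germ U.1 zz hz b) := fun b hb =>
    (hzu b).mpr fun hbq => hqp.ne_top (Ideal.eq_top_of_isUnit_mem _ hbq hb)
  -- the point is not embedded
  have hass : IsAssociatedPrime (IsLocalRing.maximalIdeal ↑(𝓘.subscheme.presheaf.stalk d)) ↑(𝓘.subscheme.presheaf.stalk d) := by
    obtain ⟨b, hb⟩ := Ideal.Quotient.mk_surjective m
    obtain ⟨⟨a₀, c⟩, hc⟩ := IsLocalization.surj (U.2.primeIdealOf ⟨x, hx⟩).asIdeal.primeCompl b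
    have hcu : IsUnit (φ c) := IsLocalization.map_units A c
    have hsurj := 𝓘.subschemeι.stalkMap_surjective d
    haveI : IsNoetherianRing (𝓘.subscheme.presheaf.stalk d) :=
      isNoetherianRing_of_surjective _ _ (𝓘.subschemeι.stalkMap d).hom hsurj
    have hkill : ∀ w : A, w ∈ q ↔ Ideal.Quotient.mk ((𝓘.ideal U).map φ) (w * φ a₀) = 0 := by
      intro w
      rw [hqm, ← hb, ← hc, ← mul_assoc, map_mul _ (w * b)]
      rw [(hcu.map (Ideal.Quotient.mk ((𝓘.ideal U).map φ))).mul_left_eq_zero]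
      rfl
    refine isAssociatedPrime_iff.mpr ⟨inferInstance, 𝓘.subschemeι.stalkMap d (X.presheaf.germ U.1 zz hz a₀),
      le_antisymm (fun y hy => ?_) (IsLocalRing.le_maximalIdeal fun htop => ?_)⟩
    · rw [Submodule.mem_colon_singleton, Submodule.mem_bot, smul_eq_mul]
      obtain ⟨w, rfl⟩ := hsurj y
      obtain ⟨⟨a, e⟩, hae⟩ := IsLocalization.surj (U.2.primeIdealOf ⟨zz, hz⟩).asIdeal.primeCompl w
      have hae : w * X.presheaf.germ U.1 zz hz e = X.presheaf.germ U.1 zz hz a := hae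
      have hau : ¬ IsUnit (X.presheaf.germ U.1 zz hz a) := fun h => by
        rw [← hae, IsUnit.mul_iff] at h
        exact (IsLocalRing.mem_maximalIdeal _).mp hy (h.1.map _)
      have haq : φ a ∈ q := not_not.mp fun h => hau ((hzu a).mpr h)
      have h3 := Ideal.Quotient.eq_zero_iff_mem.mp ((hkill _).mp haq)
      rw [← map_mul, IsLocalization.algebraMap_mem_map_algebraMap_iff (U.2.primeIdealOf ⟨x, hx⟩).asIdeal.primeCompl] at h3
      obtain ⟨t, ht, hta⟩ := h3
      have h4 : 𝓘.subschemeι.stalkMap d (X.presheaf.germ U.1 zz hz (a * a₀)) = 0 :=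
        (mem_ker_stalkMap_iff 𝓘 U d hz _).mpr ⟨t, hzx' t ((M1.isUnit_germ_iff U.2 hx t).mpr ht), hta⟩
      rw [map_mul, ← hae, mul_right_comm, map_mul] at h4
      have heu : IsUnit (𝓘.subschemeι.stalkMap d (X.presheaf.germ U.1 zz hz e)) :=
        ((M1.isUnit_germ_iff U.2 hz e.1).mpr e.2).map _
      have h5 := heu.mul_left_eq_zero.mp h4
      rwa [map_mul] at h5
    · have h1' : (1 : 𝓘.subscheme.presheaf.stalk d) ∈ Submodule.colon (⊥ : Submodule (𝓘.subscheme.presheaf.stalk d) (𝓘.subscheme.presheaf.stalk d))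
          {𝓘.subschemeι.stalkMap d (X.presheaf.germ U.1 zz hz a₀)} := (Ideal.eq_top_iff_one _).mp htop
      rw [Submodule.mem_colon_singleton, Submodule.mem_bot, one_smul] at h1'
      obtain ⟨e, he, hea⟩ := (mem_ker_stalkMap_iff 𝓘 U d hz _).mp h1'
      refine (hzu e).mp he ((hkill _).mpr (Ideal.Quotient.eq_zero_iff_mem.mpr ?_))
      rw [← map_mul]
      exact Ideal.mem_map_of_mem _ hea
  have hdim := h2 d (h1 d hass)
  rw [IsLocalization.AtPrime.ringKrullDim_eq_height (U.2.primeIdealOf ⟨zz, hz⟩).asIdeal (X.presheaf.stalk zz)] at hdim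
  have hPz : (U.2.primeIdealOf ⟨zz, hz⟩).asIdeal = q.comap φ := by
    ext a
    have h := (M1.isUnit_germ_iff U.2 hz a).symm.trans (hzu a)
    exact not_iff_not.mp h
  rw [hPz] at hdim
  have hdim : (q.comap φ).height = 1 := by exact_mod_cast hdim
  have hne : q ≠ ⊥ := by
    intro hq0
    have h0 : (q.comap φ).height = 0 := by
      rw [Ideal.height_eq_zero_iff]
      refine ⟨⟨inferInstance, bot_le⟩, fun P hP hle a ha => ?_⟩
      have : φ a = 0 := by simpa [hq0] using ha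
      obtain ⟨⟨s, hs⟩, hsa⟩ := (IsLocalization.map_eq_zero_iff (U.2.primeIdealOf ⟨x, hx⟩).asIdeal.primeCompl _ _).mp this
      refine (hP.1.mem_or_mem (hsa ▸ P.zero_mem)).resolve_left fun hsP => ?_
      exact hqp.ne_top (Ideal.eq_top_of_isUnit_mem _ (hle hsP) ((M1.isUnit_germ_iff U.2 hx s).mpr hs))
    simp [h0] at hdim
  obtain ⟨p, hpq, hp⟩ := hqp.exists_mem_prime_of_ne_bot hne
  refine ⟨p, hp, (le_antisymm ((Ideal.span_singleton_le_iff_mem _).mpr hpq) fun y hy => ?_).symm⟩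
  by_contra hyp
  haveI : (Ideal.span {p}).IsPrime := (Ideal.span_singleton_prime hp.ne_zero).mpr hp
  have hlt1 : (⊥ : Ideal A).comap φ < (Ideal.span {p}).comap φ := by
    refine lt_of_le_of_ne (Ideal.comap_mono bot_le) fun he => hp.ne_zero ?_
    obtain ⟨⟨a, c⟩, hac⟩ := IsLocalization.surj (U.2.primeIdealOf ⟨x, hx⟩).asIdeal.primeCompl p
    have ha : a ∈ (Ideal.span {p}).comap φ := Ideal.mem_span_singleton.mpr ⟨_, hac.symm⟩
    rw [← he, Ideal.mem_comap, Ideal.mem_bot] at ha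
    exact (IsLocalization.map_units A c).mul_left_eq_zero.mp (hac.trans ha)
  have hlt2 : (Ideal.span {p}).comap φ < q.comap φ := by
    refine lt_of_le_of_ne (Ideal.comap_mono ((Ideal.span_singleton_le_iff_mem _).mpr hpq)) fun he => hyp ?_
    obtain ⟨⟨a, c⟩, hac⟩ := IsLocalization.surj (U.2.primeIdealOf ⟨x, hx⟩).asIdeal.primeCompl y
    have ha : a ∈ q.comap φ := by
      rw [Ideal.mem_comap, ← hac]; exact q.mul_mem_right _ hy
    rw [← he, Ideal.mem_comap, ← hac] at ha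
    exact ((inferInstance : (Ideal.span {p}).IsPrime).mem_or_mem ha).resolve_right fun hcp =>
      (inferInstance : (Ideal.span {p}).IsPrime).ne_top (Ideal.eq_top_of_isUnit_mem _ hcp (IsLocalization.map_units A c))
  have h3 := Ideal.height_strict_mono_of_isPrime hlt1
  have h4 := Ideal.height_strict_mono_of_isPrime hlt2
  rw [hdim, Order.lt_one_iff] at h4
  rw [h4] at h3
  exact not_lt_zero h3

/-- Ideals principal at a point are principal nearby. -/
theorem exists_eqn_of_stalk [IsLocallyNoetherian X] (U : X.affineOpens) {x : X} (hx : x ∈ U.1)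
    (g : X.presheaf.stalk x) (hg : g ∈ nonZeroDivisors (X.presheaf.stalk x))
    (hJ : (𝓘.ideal U).map (X.presheaf.germ U.1 x hx).hom = Ideal.span {g}) :
    ∃ V : X.affineOpens, x ∈ V.1 ∧ ∃ f : Γ(X, V.1), f ∈ nonZeroDivisors Γ(X, V.1) ∧ 𝓘.ideal V = Ideal.span {f} := by
  classical
  haveI : IsNoetherianRing Γ(X, U.1) := IsLocallyNoetherian.component_noetherian U
  let := TopCat.Presheaf.algebra_section_stalk X.presheaf (⟨x, hx⟩ : U.1)
  have := U.2.isLocalization_stalk ⟨x, hx⟩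
  let M := (U.2.primeIdealOf ⟨x, hx⟩).asIdeal.primeCompl
  let φ := algebraMap Γ(X, U.1) (X.presheaf.stalk x)
  have hJ : (𝓘.ideal U).map φ = Ideal.span {g} := hJ
  obtain ⟨⟨⟨b, hb⟩, c⟩, hbc⟩ := (IsLocalization.mem_map_algebraMap_iff M (X.presheaf.stalk x)).mp (hJ.ge (Ideal.subset_span rfl))
  have hbc : g * φ c = φ b := hbc
  have hcu : IsUnit (φ c) := IsLocalization.map_units _ c
  obtain ⟨s, hs⟩ := IsNoetherian.noetherian (𝓘.ideal U)
  have hr : ∀ a ∈ s, ∃ r : M, (r : Γ(X, U.1)) * a ∈ Ideal.span {b} := by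
    intro a ha
    have h1 : φ a ∈ (Ideal.span {b}).map φ := by
      rw [Ideal.map_span, Set.image_singleton, ← hbc]
      exact (Ideal.span_singleton_mul_right_unit hcu g).ge (hJ.le (Ideal.mem_map_of_mem _ (hs ▸ Submodule.subset_span ha)))
    obtain ⟨t, ht, hta⟩ := (IsLocalization.algebraMap_mem_map_algebraMap_iff M _ _ _).mp h1
    exact ⟨⟨t, ht⟩, hta⟩
  choose! r hr using hr
  obtain ⟨s', hs'⟩ := IsNoetherian.noetherian (LinearMap.ker (LinearMap.mulLeft Γ(X, U.1) b))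
  have hr' : ∀ a ∈ s', ∃ t : M, (t : Γ(X, U.1)) * a = 0 := by
    intro a ha
    have h1 : b * a = 0 := LinearMap.mem_ker.mp (hs' ▸ Submodule.subset_span ha)
    refine (IsLocalization.map_eq_zero_iff M (X.presheaf.stalk x) a).mp ?_
    have hnz : φ b ∈ nonZeroDivisors (X.presheaf.stalk x) := hbc ▸ mul_mem hg hcu.mem_nonZeroDivisors
    refine mem_nonZeroDivisors_iff.mp hnz |>.1 _ ?_
    rw [← map_mul, h1, map_zero]
  choose! r' hr' using hr'
  let T : M := (∏ a ∈ s, r a) * (∏ a ∈ s', r' a)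
  have hTs : ∀ a ∈ 𝓘.ideal U, (T : Γ(X, U.1)) * a ∈ Ideal.span {b} := by
    intro a ha
    rw [← hs] at ha
    have hle : Submodule.span Γ(X, U.1) (s : Set Γ(X, U.1)) ≤
        Submodule.comap (LinearMap.mulLeft Γ(X, U.1) (T : Γ(X, U.1))) (Ideal.span {b}) := by
      rw [Submodule.span_le]
      intro a ha
      obtain ⟨w, hw⟩ := Finset.dvd_prod_of_mem r ha
      change (T : Γ(X, U.1)) * a ∈ Ideal.span {b}
      have : (T : Γ(X, U.1)) = (r a : Γ(X, U.1)) * ((w : Γ(X, U.1)) * ((∏ a ∈ s', r' a : M) : Γ(X, U.1))) := by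
        rw [← mul_assoc, ← Submonoid.coe_mul, ← hw]; rfl
      rw [this, mul_right_comm]
      exact Ideal.mul_mem_right _ _ (hr a ha)
    exact hle ha
  have hTk : ∀ a, b * a = 0 → (T : Γ(X, U.1)) * a = 0 := by
    intro a ha
    have hle : Submodule.span Γ(X, U.1) (s' : Set Γ(X, U.1)) ≤
        LinearMap.ker (LinearMap.mulLeft Γ(X, U.1) (T : Γ(X, U.1))) := by
      rw [Submodule.span_le]
      intro a ha
      obtain ⟨w, hw⟩ := Finset.dvd_prod_of_mem r' ha
      change (T : Γ(X, U.1)) * a = 0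
      have : (T : Γ(X, U.1)) = (r' a : Γ(X, U.1)) * ((w : Γ(X, U.1)) * ((∏ a ∈ s, r a : M) : Γ(X, U.1))) := by
        rw [← mul_assoc, ← Submonoid.coe_mul, ← hw, ← Submonoid.coe_mul, mul_comm]
      rw [this, mul_right_comm, hr' a ha, zero_mul]
    rw [hs'] at hle
    exact hle (LinearMap.mem_ker.mpr ha)
  let g' : Γ(X, U.1) := T
  let V := X.affineBasicOpen g'
  letI : Algebra Γ(X, U.1) Γ(X, V.1) := (X.presheaf.map (homOfLE (X.basicOpen_le g')).op).hom.toAlgebra
  haveI : IsLocalization.Away g' Γ(X, V.1) := U.2.isLocalization_basicOpen g'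
  refine ⟨V, (X.mem_basicOpen g' x hx).mpr ((M1.isUnit_germ_iff U.2 hx g').mpr T.2), algebraMap _ _ b, ?_, ?_⟩
  · rw [mem_nonZeroDivisors_iff_right]
    intro z hz
    obtain ⟨⟨a, e⟩, hae⟩ := IsLocalization.surj (Submonoid.powers g') z
    have h0 : algebraMap Γ(X, U.1) Γ(X, V.1) (b * a) = 0 := by
      rw [map_mul, ← hae, ← mul_assoc, mul_comm (algebraMap _ _ b) z, hz, zero_mul]
    obtain ⟨⟨_, n, rfl⟩, hn⟩ := (IsLocalization.map_eq_zero_iff (Submonoid.powers g') _ _).mp h0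
    have h1 := hTk (g' ^ n * a) (by rw [mul_left_comm]; exact hn)
    have ha0 : algebraMap Γ(X, U.1) Γ(X, V.1) a = 0 := by
      refine (IsLocalization.map_eq_zero_iff (Submonoid.powers g') _ _).mpr ⟨⟨_, n + 1, rfl⟩, ?_⟩
      change g' ^ (n + 1) * a = 0
      rw [pow_succ', mul_assoc]; exact h1
    exact (IsLocalization.map_units _ e).mul_left_eq_zero.mp (hae.trans ha0)
  · rw [← 𝓘.map_ideal (show V ≤ U from X.basicOpen_le g')]
    refine le_antisymm (Ideal.map_le_iff_le_comap.mpr fun a ha => ?_) ((Ideal.span_singleton_le_iff_mem _).mpr (Ideal.mem_map_of_mem _ hb))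
    obtain ⟨w, hw⟩ := Ideal.mem_span_singleton'.mp (hTs a ha)
    have h1 := congrArg (algebraMap Γ(X, U.1) Γ(X, V.1)) hw
    rw [map_mul, map_mul] at h1
    change algebraMap Γ(X, U.1) Γ(X, V.1) a ∈ Ideal.span {algebraMap Γ(X, U.1) Γ(X, V.1) b}
    refine (Ideal.unit_mul_mem_iff_mem _ (IsLocalization.Away.algebraMap_isUnit (S := Γ(X, V.1)) g')).mp ?_
    change algebraMap Γ(X, U.1) Γ(X, V.1) g' * algebraMap Γ(X, U.1) Γ(X, V.1) a ∈ _
    rw [← h1]
    exact Ideal.mul_mem_left _ _ (Ideal.subset_span rfl)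

end Groth.Agent.SecDiv
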