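import Groth.Agent.Lib.HilbSam.Poly
import Mathlib.RingTheory.Nakayama
import Mathlib.RingTheory.LocalRing.MaximalIdeal.Basic
import Mathlib.RingTheory.Finiteness.Basic

/-!
Punctured spectra of local rings of dimension at least two are not affine.
-/

universe u

open IsLocalRing

namespace Groth.Agent.SecDiv

variable {A : Type u} [CommRing A] [IsLocalRing A] [IsNoetherianRing A]
  {L : Type u} [CommRing L] [IsDomain L] [Algebra A L]

/-- A module between a local ring and its field of fractions, all whose elements are pushed into the ring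
by powers of the maximal ideal, cannot satisfy `𝔪 B = B` if an element of `𝔪` is not invertible in it. -/
theorem false_of_punctured (hinj : Function.Injective (algebraMap A L)) (B : Submodule A L) (h1 : (1 : L) ∈ B)
    (hm : B ≤ maximalIdeal A • B) (x : A) (hx : x ∈ maximalIdeal A) (hx0 : x ≠ 0)
    (hxB : ∀ b ∈ B, x • b ≠ 1)
    (hpow : ∀ b ∈ B, ∀ a ∈ maximalIdeal A, ∃ k : ℕ, a ^ k • b ∈ LinearMap.range (Algebra.linearMap A L)) : False := by
  have hxinj : ∀ b c : L, x • b = x • c → b = c := fun b c h => by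
    rw [Algebra.smul_def, Algebra.smul_def] at h
    exact mul_left_cancel₀ ((map_ne_zero_iff _ hinj).mpr hx0) h
  let I : ℕ → Submodule A A := fun N =>
    Submodule.comap (Algebra.linearMap A L) (B.map ((x ^ N) • (LinearMap.id : L →ₗ[A] L)))
  have hI : ∀ N a, a ∈ I N ↔ ∃ b ∈ B, x ^ N • b = algebraMap A L a := fun N a => by simp [I]
  have hIanti : Antitone fun N => I (N + 1) := antitone_nat_of_succ_le fun N a ha => by
    obtain ⟨b, hb, e⟩ := (hI _ _).mp ha
    exact (hI _ _).mpr ⟨x • b, B.smul_mem x hb, by rw [← mul_smul, ← pow_succ]; exact e⟩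
  -- the quotient of the first of these ideals by `(x)` is Artinian
  let π := (Ideal.span {x} : Submodule A A).mkQ
  let T := (I 1).map π
  have hsupp : ∀ p ∈ Module.support A T, p.asIdeal.IsMaximal := by
    intro p hp
    obtain ⟨⟨m, hm'⟩, hmp⟩ := Module.mem_support_iff'.mp hp
    obtain ⟨r, hr, hrm⟩ := hm'
    obtain ⟨b, hb, e⟩ := (hI _ _).mp hr
    have hle : maximalIdeal A ≤ p.asIdeal := fun a ha => by
      obtain ⟨k, r', hr'⟩ := hpow b hb a ha
      by_contra hap
      refine hmp (a ^ k) (fun h => hap (p.isPrime.mem_of_pow_mem k h)) (Subtype.ext ?_)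
      change a ^ k • m = 0
      rw [← hrm, ← map_smul]
      refine (Submodule.Quotient.mk_eq_zero _).mpr (Ideal.mem_span_singleton'.mpr ⟨r', hinj ?_⟩)
      rw [smul_eq_mul, map_mul, map_mul, ← e, pow_one, Algebra.smul_def,
        show algebraMap A L r' = a ^ k • b from hr', Algebra.smul_def]
      ring
    exact ((maximalIdeal.isMaximal A).eq_of_le p.isPrime.ne_top hle) ▸ maximalIdeal.isMaximal A
  have hT : IsFiniteLength A T := HilbSam.isFiniteLength_of_support hsupp
  haveI : IsArtinian A T := (isFiniteLength_iff_isNoetherian_isArtinian.mp hT).2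
  obtain ⟨N, hN⟩ := IsArtinian.monotone_stabilizes
    (⟨fun n => OrderDual.toDual ((I (n + 1)).map π).comap T.subtype, fun a b hab => by
      exact Submodule.comap_mono (Submodule.map_mono (hIanti hab))⟩ : ℕ →o (Submodule A T)ᵒᵈ)
  have hstab : ∀ n, N ≤ n → ∀ a ∈ I (n + 1), ∃ a' ∈ I (n + 2), a - a' ∈ Ideal.span {x} := by
    intro n hn a ha
    have h2 : ((I (n + 1)).map π).comap T.subtype = ((I (n + 2)).map π).comap T.subtype :=
      OrderDual.toDual.injective ((hN n hn).symm.trans (hN (n + 1) (by omega)))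
    have h3 : (⟨π a, Submodule.mem_map_of_mem (hIanti (Nat.zero_le n) ha)⟩ : T) ∈ ((I (n + 1)).map π).comap T.subtype :=
      Submodule.mem_map_of_mem ha
    rw [h2] at h3
    obtain ⟨a', ha', e⟩ := h3
    exact ⟨a', ha', (Submodule.Quotient.eq _).mp (show π a = π a' from e.symm)⟩
  -- so everything is congruent to a finitely generated piece modulo `x`
  let F : Submodule A L := B ⊓ (LinearMap.range (Algebra.linearMap A L)).comap ((x ^ (N + 1)) • (LinearMap.id : L →ₗ[A] L))
  have hdesc : ∀ n, N + 1 ≤ n → ∀ b ∈ B, x ^ n • b ∈ LinearMap.range (Algebra.linearMap A L) →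
      ∃ c ∈ B, ∃ f ∈ F, b = x • c + f := by
    intro n hn
    induction n, hn using Nat.le_induction with
    | base => exact fun b hb h => ⟨0, B.zero_mem, b, ⟨hb, by simpa using h⟩, by simp⟩
    | succ n hn ih =>
      intro b hb ⟨a, ha⟩
      obtain ⟨a', ha', hd⟩ := hstab n (by omega) a ((hI _ _).mpr ⟨b, hb, ha.symm⟩)
      obtain ⟨w, hw⟩ := Ideal.mem_span_singleton'.mp hd
      obtain ⟨b', hb', e'⟩ := (hI _ _).mp ha'
      have hmem : b - x • b' ∈ B := B.sub_mem hb (B.smul_mem x hb')
      have e1 : algebraMap A L a = x ^ (n + 1) • b := ha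
      have e2 := congrArg (algebraMap A L) hw
      rw [map_mul, map_sub, e1, ← e', Algebra.smul_def, Algebra.smul_def, map_pow, map_pow] at e2
      obtain ⟨c, hc, f, hf, e⟩ := ih _ hmem ⟨w, hxinj _ _ (by
        rw [Algebra.linearMap_apply, Algebra.smul_def, Algebra.smul_def, Algebra.smul_def, Algebra.smul_def, map_pow]
        linear_combination e2)⟩
      exact ⟨c + b', B.add_mem hc hb', f, hf, by rw [smul_add, ← eq_sub_iff_add_eq.mp e.symm]; abel⟩
  haveI : IsNoetherian A F := by
    refine isNoetherian_of_injective (((x ^ (N + 1)) • (LinearMap.id : L →ₗ[A] L)).restrict (p := F)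
      (q := LinearMap.range (Algebra.linearMap A L)) fun b hb => hb.2) fun b c h => Subtype.ext ?_
    have h' : x ^ (N + 1) • (b : L) = x ^ (N + 1) • (c : L) := congrArg Subtype.val h
    rw [Algebra.smul_def, Algebra.smul_def] at h'
    exact mul_left_cancel₀ ((map_ne_zero_iff _ hinj).mpr (fun h => hx0 (by
      have : IsDomain A := hinj.isDomain (algebraMap A L)
      exact eq_zero_of_pow_eq_zero h))) h'
  let ρ := (B.map (x • (LinearMap.id : L →ₗ[A] L))).mkQ
  have hBF : B.map ρ = F.map ρ := by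
    refine le_antisymm ?_ (Submodule.map_mono inf_le_left)
    rintro _ ⟨b, hb, rfl⟩
    obtain ⟨k, hk⟩ := hpow b hb x hx
    obtain ⟨r, hr⟩ := hk
    have hk' : x ^ (max k (N + 1)) • b ∈ LinearMap.range (Algebra.linearMap A L) := by
      obtain ⟨j, hj⟩ := Nat.exists_eq_add_of_le (le_max_left k (N + 1))
      exact ⟨x ^ j • r, by rw [map_smul, hr, ← mul_smul, hj, pow_add, mul_comm]⟩
    obtain ⟨c, hc, f, hf, rfl⟩ := hdesc _ (le_max_right _ _) b hb hk'
    refine ⟨f, hf, ?_⟩
    rw [map_add]
    exact (add_eq_right.mpr ((Submodule.Quotient.mk_eq_zero _).mpr (Submodule.mem_map_of_mem hc))).symm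
  have hfg : (B.map ρ).FG := hBF ▸ ((Module.Finite.iff_fg).mp inferInstance : F.FG).map ρ
  have hz : B.map ρ = ⊥ := by
    refine Submodule.eq_bot_of_le_smul_of_le_jacobson_bot (maximalIdeal A) _ hfg ?_ (maximalIdeal_le_jacobson ⊥)
    exact (Submodule.map_mono hm).trans (Submodule.map_smul'' _ _ _).le
  have h0 : ρ (1 : L) = 0 := (Submodule.eq_bot_iff _).mp hz _ ⟨1, h1, rfl⟩
  obtain ⟨c, hc, e⟩ := (Submodule.Quotient.mk_eq_zero _).mp h0
  exact hxB c hc e

end Groth.Agent.SecDiv
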