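import Groth.Agent.Lib.SecDiv18.Factorial
import Groth.Agent.Lib.RedSep.Basic
import Groth.Agent.S1573
import Mathlib.AlgebraicGeometry.Morphisms.Affine

/-!
The complement of an affine open as an effective Cartier divisor.
-/

universe u

open CategoryTheory Limits AlgebraicGeometry TopologicalSpace Opposite

namespace Groth.Agent.SecDiv

theorem exists_effCartier_compl {X : Scheme.{u}} [IsNoetherian X]
    (hΔ : ∀ V W : X.Opens, IsAffineOpen V → IsAffineOpen W → IsAffineOpen (V ⊓ W))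
    (U : X.Opens) (hU : IsAffineOpen U) (hdense : Dense (U : Set X))
    (hufd : ∀ x : X, x ∉ U → IsDomain (X.presheaf.stalk x) ∧ UniqueFactorizationMonoid (X.presheaf.stalk x)) :
    ∃ 𝓘 : X.IdealSheafData, BlowUp.IsEffCartierIdeal 𝓘 ∧ (𝓘.support : Set X) = (U : Set X)ᶜ := by
  let Z : Closeds X := ⟨(U : Set X)ᶜ, U.isOpen.isClosed_compl⟩
  let I := Scheme.IdealSheafData.vanishingIdeal Z
  have hsupp : (I.support : Set X) = (U : Set X)ᶜ := by
    simp [I, Z]
  haveI : IsAffineHom U.ι := by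
    refine isAffineHom_of_forall_exists_isAffineOpen _ fun x => ?_
    obtain ⟨V, hV, hxV, -⟩ := exists_isAffineOpen_mem_and_subset (U := (⊤ : X.Opens)) (x := x) trivial
    refine ⟨V, hxV, hV, U.ι.isAffineOpen_iff_of_isOpenImmersion.mp ?_⟩
    rw [Scheme.Hom.image_preimage_eq_opensRange_inf, Scheme.Opens.opensRange_ι]
    exact hΔ U V hU hV
  haveI : IsReduced I.subscheme := RedSepLib.isReduced_vanishingIdeal_subscheme Z
  have hmem : ∀ z : I.subscheme, I.subschemeι z ∉ U := fun z => by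
    have : I.subschemeι z ∈ (I.support : Set X) := I.range_subschemeι.le ⟨z, rfl⟩
    rw [hsupp] at this
    exact this
  refine ⟨I, (fun x => ?_), hsupp⟩
  have h1 : ∀ z : ↥I.subscheme, IsAssociatedPrime (IsLocalRing.maximalIdeal ↑(I.subscheme.presheaf.stalk z)) ↑(I.subscheme.presheaf.stalk z) →
      ∀ z' : ↥I.subscheme, z' ⤳ z → z' = z := by
    intro z hz z' hz'
    refine WA.eq_of_specializes_weakAss ?_ hz'
    obtain ⟨-, m, hm⟩ := hz
    have hm0 : m ≠ 0 := by
      intro h0
      refine (IsLocalRing.maximalIdeal.isMaximal (I.subscheme.presheaf.stalk z)).ne_top (hm.trans ?_)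
      rw [Ideal.radical_eq_top, eq_top_iff]
      exact fun c _ => by rw [Submodule.mem_colon_singleton, Submodule.mem_bot, h0, smul_zero]
    obtain ⟨V, hV, hzV, -⟩ := exists_isAffineOpen_mem_and_subset (U := (⊤ : I.subscheme.Opens)) (x := z) trivial
    let := TopCat.Presheaf.algebra_section_stalk I.subscheme.presheaf (⟨z, hzV⟩ : V)
    have := hV.isLocalization_stalk ⟨z, hzV⟩
    obtain ⟨⟨t, c⟩, htc⟩ := IsLocalization.surj (hV.primeIdealOf ⟨z, hzV⟩).asIdeal.primeCompl m
    have hcu : IsUnit (I.subscheme.presheaf.germ V z hzV c) := (M1.isUnit_germ_iff hV hzV c).mpr c.2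
    have htc : m * I.subscheme.presheaf.germ V z hzV c = I.subscheme.presheaf.germ V z hzV t := htc
    refine WA.isWeakAssPoint_of_section hV hzV (show Γ(Coh.structureModule I.subscheme, V) from t) (fun h0 => hm0 ?_) fun b hb => ?_
    · exact hcu.mul_left_eq_zero.mp (htc.trans ((WA.germ_O_eq_zero_iff hzV t).mp h0))
    · have hbm : I.subscheme.presheaf.germ V z hzV b ∈ IsLocalRing.maximalIdeal _ := (IsLocalRing.mem_maximalIdeal _).mpr hb
      rw [hm] at hbm
      obtain ⟨k, hk⟩ := hbm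
      rw [Submodule.mem_colon_singleton, Submodule.mem_bot, smul_eq_mul] at hk
      refine ⟨k, (WA.germ_O_eq_zero_iff hzV _).mpr ?_⟩
      change I.subscheme.presheaf.germ V z hzV (b ^ k * t) = 0
      rw [map_mul, map_pow, ← htc, ← mul_assoc, hk, zero_mul]
  have h2 : ∀ z : ↥I.subscheme, (∀ z' : ↥I.subscheme, z' ⤳ z → z' = z) →
      ringKrullDim (X.presheaf.stalk (I.subschemeι z)) = 1 := by
    intro z hz
    refine (S1573.result X U (I.subschemeι z) (hmem z) fun y hy hyz => ?_).2 hdense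
    obtain ⟨w, rfl⟩ : y ∈ Set.range I.subschemeι := I.range_subschemeι.ge (hsupp.ge hy)
    rw [hz w ((I.subschemeι.isClosedEmbedding.isEmbedding.isInducing.specializes_iff).mp hyz)]
  by_cases hx : x ∈ I.support
  · obtain ⟨hdom, hufd⟩ := hufd x (fun h => (hsupp.le hx) h)
    haveI := hdom
    haveI := hufd
    obtain ⟨V, hV, hxV, -⟩ := exists_isAffineOpen_mem_and_subset (U := (⊤ : X.Opens)) (x := x) trivial
    obtain ⟨g, hg, hJ⟩ := principal_of_ass ((I.ideal ⟨V, hV⟩).map (X.presheaf.germ V x hxV).hom)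
      (exists_prime_of_ass I h1 h2 ⟨V, hV⟩ hxV hdom hufd)
    exact exists_eqn_of_stalk I ⟨V, hV⟩ hxV g (mem_nonZeroDivisors_of_ne_zero hg) hJ
  · obtain ⟨V, hV, hxV, hVs⟩ := exists_isAffineOpen_mem_and_subset (U := I.support.compl) (x := x) hx
    refine ⟨⟨V, hV⟩, hxV, 1, one_mem _, ?_⟩
    rw [Ideal.span_singleton_one]
    by_contra hne
    obtain ⟨P, hP, hle⟩ := Ideal.exists_le_maximal _ hne
    obtain ⟨y, hy, hyu⟩ := WA.exists_point hV P
    refine hVs hy ?_
    rw [SetLike.mem_coe, Scheme.IdealSheafData.mem_support_iff_of_mem (U := ⟨V, hV⟩) hy, Scheme.mem_zeroLocus_iff]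
    exact fun a ha hya => (hyu a).mp ((X.mem_basicOpen a y hy).mp hya) (hle ha)

end Groth.Agent.SecDiv
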