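import Groth.Agent.Lib.SecDiv18.Basic
import Mathlib.AlgebraicGeometry.Noetherian

/-!
Sections generating at the associated points are regular.
-/

universe u

open CategoryTheory Limits AlgebraicGeometry TopologicalSpace Opposite

set_option backward.isDefEq.respectTransparency false

namespace Groth.Agent.SecDiv

open Groth.Agent.M2 (IsGenerator res)
open Groth.Agent.Amp

variable {X : Scheme.{u}}

theorem germ_eq_zero_of_eq {U V W : X.Opens} (hU : W ≤ U) (hV : W ≤ V) (a : Γ(X, U)) (b : Γ(X, V))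
    (h : X.presheaf.map (homOfLE hU).op a * X.presheaf.map (homOfLE hV).op b = 0) {y : X} (hy : y ∈ W)
    (ha : IsUnit (X.presheaf.germ U y (hU hy) a)) : X.presheaf.germ V y (hV hy) b = 0 := by
  have := congrArg (X.presheaf.germ W y hy) h
  rw [map_mul, map_zero, TopCat.Presheaf.germ_res_apply, TopCat.Presheaf.germ_res_apply] at this
  exact ha.mul_right_eq_zero.mp this

/-- Germs on an affine open are fractions. -/
theorem exists_germ_mul_eq {U : X.Opens} (hU : IsAffineOpen U) {x : X} (hx : x ∈ U) (r : X.presheaf.stalk x) :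
    ∃ c β : Γ(X, U), IsUnit (X.presheaf.germ U x hx c) ∧ X.presheaf.germ U x hx c * r = X.presheaf.germ U x hx β := by
  let := TopCat.Presheaf.algebra_section_stalk X.presheaf (⟨x, hx⟩ : U)
  have := hU.isLocalization_stalk ⟨x, hx⟩
  obtain ⟨⟨β, c⟩, h⟩ := IsLocalization.surj (hU.primeIdealOf ⟨x, hx⟩).asIdeal.primeCompl r
  exact ⟨c, β, (M1.isUnit_germ_iff hU hx _).mpr c.2, (mul_comm _ _).trans h⟩

/-- A section with zero germ is killed by a unit at the point. -/
theorem exists_mul_eq_zero {U : X.Opens} (hU : IsAffineOpen U) {x : X} (hx : x ∈ U) (a : Γ(X, U))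
    (h : X.presheaf.germ U x hx a = 0) : ∃ u : Γ(X, U), IsUnit (X.presheaf.germ U x hx u) ∧ u * a = 0 := by
  let := TopCat.Presheaf.algebra_section_stalk X.presheaf (⟨x, hx⟩ : U)
  have := hU.isLocalization_stalk ⟨x, hx⟩
  obtain ⟨⟨u, hu⟩, h'⟩ := (IsLocalization.map_eq_zero_iff (hU.primeIdealOf ⟨x, hx⟩).asIdeal.primeCompl
    (X.presheaf.stalk x) a).mp h
  exact ⟨u, (M1.isUnit_germ_iff hU hx _).mpr hu, h'⟩

/-- Finitely many points testing the regularity of sections of invertible modules. -/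
theorem exists_finite_regular (X : Scheme.{u}) [IsNoetherian X] :
    ∃ Z : Set X, Z.Finite ∧ ∀ (M : X.Modules) (s : Coh.structureModule X ⟶ M), PicF.IsInvertible M →
      Z ⊆ (CohB1.genLocus M s : Set X) → IsRegularSec s := by
  choose U hU hxU _ using fun x : X => exists_isAffineOpen_mem_and_subset (U := (⊤ : X.Opens)) (x := x) trivial
  obtain ⟨T, hT⟩ := isCompact_univ.elim_finite_subcover (fun x => (U x : Set X)) (fun x => (U x).isOpen)
    (fun x _ => Set.mem_iUnion.mpr ⟨x, hxU x⟩)
  refine ⟨⋃ x ∈ T, (hU x).fromSpec '' {p | p.asIdeal ∈ associatedPrimes Γ(X, U x) Γ(X, U x)},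
    T.finite_toSet.biUnion fun x _ => ?_, fun M s hM hZ x r hr => ?_⟩
  · haveI : IsNoetherianRing Γ(X, U x) := IsLocallyNoetherian.component_noetherian ⟨U x, hU x⟩
    refine Set.Finite.image _ (Set.Finite.of_finite_image (f := fun p => p.asIdeal) ?_ ?_)
    · exact (associatedPrimes.finite Γ(X, U x) Γ(X, U x)).subset (by rintro _ ⟨p, hp, rfl⟩; exact hp)
    · exact fun p _ q _ h => PrimeSpectrum.ext h
  by_contra hr0
  obtain ⟨i, hi, hxi⟩ := Set.mem_iUnion₂.mp (hT (Set.mem_univ x))
  let A := Γ(X, U i)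
  haveI : IsNoetherianRing A := IsLocallyNoetherian.component_noetherian ⟨U i, hU i⟩
  -- write `r` as a fraction
  obtain ⟨c, β, hc, hcβ⟩ := exists_germ_mul_eq (hU i) hxi r
  let J : Ideal A := Submodule.colon (⊥ : Submodule A A) {(show A from β)}
  let P := (hU i).primeIdealOf ⟨x, hxi⟩
  -- an element with prime annihilator still nonzero at `x`
  obtain ⟨t, ht0, hmax⟩ : ∃ t : A, X.presheaf.germ (U i) x hxi (t * (show A from β)) ≠ 0 ∧
      ∀ t' : A, X.presheaf.germ (U i) x hxi (t' * (show A from β)) ≠ 0 →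
        ¬ Submodule.colon (⊥ : Submodule A A) {t * (show A from β)} < Submodule.colon (⊥ : Submodule A A) {t' * (show A from β)} := by
    let S : Set (Ideal A) := (fun t => Submodule.colon (⊥ : Submodule A A) {t * (show A from β)}) ''
      {t | X.presheaf.germ (U i) x hxi (t * (show A from β)) ≠ 0}
    have hne : S.Nonempty := ⟨_, 1, by
      change X.presheaf.germ (U i) x hxi (1 * _) ≠ 0
      rw [one_mul, ← hcβ]
      exact fun h0 => hr0 (hc.mul_right_eq_zero.mp h0), rfl⟩
    obtain ⟨_, ⟨t, ht, rfl⟩, hm⟩ := set_has_maximal_iff_noetherian.mpr inferInstance S hne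
    exact ⟨t, ht, fun t' ht' => hm _ ⟨t', ht', rfl⟩⟩
  let γ : A := t * (show A from β)
  let q : Ideal A := Submodule.colon (⊥ : Submodule A A) {γ}
  have hq : ∀ a : A, a ∈ q ↔ a * γ = 0 := fun a => by
    simp [q, Submodule.mem_colon_singleton, smul_eq_mul]
  have hqP : q ≤ P.asIdeal := fun a ha => by
    by_contra haP
    have hu := (M1.isUnit_germ_iff (hU i) hxi a).mpr haP
    have h := congrArg (X.presheaf.germ (U i) x hxi) ((hq a).mp ha)
    rw [map_mul, map_zero] at h
    exact ht0 (hu.mul_right_eq_zero.mp h)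
  have hqprime : q.IsPrime := by
    refine Ideal.isPrime_iff.mpr ⟨fun h => ?_, fun {a b} hab => or_iff_not_imp_left.mpr fun ha => ?_⟩
    · exact P.isPrime.ne_top (top_le_iff.mp (h ▸ hqP))
    · by_cases hg : X.presheaf.germ (U i) x hxi (a * γ) = 0
      · exfalso
        obtain ⟨u, hu, hu0⟩ := exists_mul_eq_zero (hU i) hxi (a * γ) hg
        refine hmax (u * t) ?_ ?_
        · rw [mul_assoc, map_mul]
          exact fun h0 => ht0 (hu.mul_right_eq_zero.mp h0)
        · refine lt_of_le_of_ne (fun z hz => ?_) fun he => ha ?_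
          · rw [Submodule.mem_colon_singleton, Submodule.mem_bot] at hz ⊢
            calc z • (u * t * (show A from β)) = u * (z • (t * (show A from β))) := by simp only [smul_eq_mul]; ring
              _ = 0 := by rw [hz, mul_zero]
          · change a ∈ Submodule.colon (⊥ : Submodule A A) {t * (show A from β)}
            rw [he, Submodule.mem_colon_singleton, Submodule.mem_bot, smul_eq_mul, ← hu0]
            ring
      · have hg' : X.presheaf.germ (U i) x hxi (a * t * (show A from β)) ≠ 0 := by rwa [mul_assoc]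
        have hle : Submodule.colon (⊥ : Submodule A A) {γ} ≤ Submodule.colon (⊥ : Submodule A A) {a * t * (show A from β)} := fun z hz => by
          rw [Submodule.mem_colon_singleton, Submodule.mem_bot] at hz ⊢
          calc z • (a * t * (show A from β)) = a * (z • γ) := by simp only [smul_eq_mul, γ]; ring
            _ = 0 := by rw [hz, mul_zero]
        have he : Submodule.colon (⊥ : Submodule A A) {γ} = Submodule.colon (⊥ : Submodule A A) {a * t * (show A from β)} :=
          eq_of_le_of_not_lt hle (hmax _ hg')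
        change b ∈ Submodule.colon (⊥ : Submodule A A) {γ}
        rw [he, Submodule.mem_colon_singleton, Submodule.mem_bot, smul_eq_mul, ← (hq _).mp hab]
        simp only [γ]; ring
  let y : X := (hU i).fromSpec ⟨q, hqprime⟩
  have hyZ : y ∈ CohB1.genLocus M s :=
    hZ (Set.mem_iUnion₂.mpr ⟨i, hi, ⟨q, hqprime⟩, ⟨hqprime, γ, by
      change q = (Submodule.colon (⊥ : Submodule A A) {γ}).radical
      exact hqprime.radical.symm⟩, rfl⟩)
  have hyx : y ⤳ x := by
    have h1 : (⟨q, hqprime⟩ : PrimeSpectrum A) ⤳ P := (PrimeSpectrum.le_iff_specializes _ _).mp hqP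
    have h2 := h1.map (hU i).fromSpec.continuous
    have h3 : (hU i).fromSpec P = x := (hU i).fromSpec_primeIdealOf ⟨x, hxi⟩
    exact h3 ▸ h2
  have hyU : y ∈ U i := hyx.mem_open (U i).isOpen hxi
  -- the local equation
  obtain ⟨W, g, a, hxW, hWU, -, hg, hga, hloc⟩ := exists_local hM s (V := U i) hxi
  have hra : r * X.presheaf.germ W x hxW a = 0 := by
    refine (gen_of_isGenerator hg hxW).1 ?_
    change (r * _) • _ = (0 : X.presheaf.stalk x) • _
    rw [zero_smul, mul_smul, ← gm_smul, hga, gm_res]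
    exact hr
  have hγ : X.presheaf.germ W x hxW a * X.presheaf.germ (U i) x hxi γ = 0 := by
    simp only [γ]
    rw [map_mul, ← hcβ]
    linear_combination (X.presheaf.germ (U i) x hxi t * X.presheaf.germ (U i) x hxi c) * hra
  obtain ⟨W', hxW', hWW⟩ : ∃ (W' : X.Opens) (_ : x ∈ W'), ∃ (h1 : W' ≤ W) (h2 : W' ≤ U i),
      X.presheaf.map (homOfLE h1).op a * X.presheaf.map (homOfLE h2).op γ = 0 := by
    have e : X.presheaf.germ W x hxW (a * X.presheaf.map (homOfLE hWU).op γ) = X.presheaf.germ W x hxW 0 := by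
      rw [map_mul, map_zero, TopCat.Presheaf.germ_res_apply, hγ]
    obtain ⟨W', hxW', j, j', hj⟩ := X.presheaf.germ_eq x hxW hxW _ _ e
    refine ⟨W', hxW', j.le, j.le.trans hWU, ?_⟩
    rw [map_zero, map_mul, ← CommRingCat.comp_apply, ← Functor.map_comp] at hj
    exact hj
  obtain ⟨h1, h2, h0⟩ := hWW
  have hyW' : y ∈ W' := hyx.mem_open W'.isOpen hxW'
  have hau : IsUnit (X.presheaf.germ W y (h1 hyW') a) :=
    (Scheme.mem_basicOpen X a y (h1 hyW')).mp (hloc ▸ ⟨hyZ, h1 hyW'⟩)
  have hγy : X.presheaf.germ (U i) y (h2 hyW') γ = 0 := germ_eq_zero_of_eq h1 h2 a γ h0 hyW' hau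
  obtain ⟨u, hu, hu0⟩ := exists_mul_eq_zero (hU i) (h2 hyW') γ hγy
  have huq : u ∈ q := (hq u).mpr hu0
  have hy' : (hU i).primeIdealOf ⟨y, h2 hyW'⟩ = ⟨q, hqprime⟩ :=
    (hU i).fromSpec.isOpenEmbedding.injective ((hU i).fromSpec_primeIdealOf ⟨y, h2 hyW'⟩)
  rw [M1.isUnit_germ_iff (hU i) (h2 hyW'), hy'] at hu
  exact hu huq

end Groth.Agent.SecDiv
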